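import Cfsg.Agent.Lib.FischerExist27.M24Defs

/-!
Every fixed member of the small suborbit is listed.
-/

set_option autoImplicit false
set_option maxRecDepth 20000
set_option Elab.async false

namespace Cfsg.Agent.Lib.FischerExist27.M24Checks

open Cfsg.Agent.Lib.CosetEnum (allBelow allFrom allBelow_add)
open Cfsg.Agent.Lib.FischerExist27.M24Data Cfsg.Agent.Lib.FischerExist27.M24Defs

theorem all_ok_part0 : allFrom 0 8000 (allAt) = true := by decide +kernel

theorem all_ok_part1 : allFrom 8000 8000 (allAt) = true := by decide +kernel

theorem all_ok_part2 : allFrom 16000 8000 (allAt) = true := by decide +kernel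

theorem all_ok_part3 : allFrom 24000 7671 (allAt) = true := by decide +kernel

theorem all_ok : allBelow 31671 (allAt) = true :=
  (allBelow_add (allBelow_add (allBelow_add (allBelow_add (rfl : allBelow 0 (allAt) = true) all_ok_part0 (by omega : 0 + 8000 = 8000)) all_ok_part1 (by omega : 8000 + 8000 = 16000)) all_ok_part2 (by omega : 16000 + 8000 = 24000)) all_ok_part3 (by omega : 24000 + 7671 = 31671))

end Cfsg.Agent.Lib.FischerExist27.M24Checks
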