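import Cfsg.Agent.Lib.FischerExist27.M24Defs

/-!
The parts of the generators on the blocks.
-/

set_option autoImplicit false
set_option maxRecDepth 20000
set_option Elab.async false

namespace Cfsg.Agent.Lib.FischerExist27.M24Checks

open Cfsg.Agent.Lib.CosetEnum (allBelow allFrom allBelow_add)
open Cfsg.Agent.Lib.FischerExist27.M24Data Cfsg.Agent.Lib.FischerExist27.M24Defs

theorem block_ok0_part0 : allFrom 0 540 (blockAt 0) = true := by decide +kernel

theorem block_ok0_part1 : allFrom 540 540 (blockAt 0) = true := by decide +kernel

theorem block_ok0 : allBelow 1080 (blockAt 0) = true :=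
  (allBelow_add (allBelow_add (rfl : allBelow 0 (blockAt 0) = true) block_ok0_part0 (by omega : 0 + 540 = 540)) block_ok0_part1 (by omega : 540 + 540 = 1080))

theorem block_ok1_part0 : allFrom 0 540 (blockAt 1) = true := by decide +kernel

theorem block_ok1_part1 : allFrom 540 540 (blockAt 1) = true := by decide +kernel

theorem block_ok1 : allBelow 1080 (blockAt 1) = true :=
  (allBelow_add (allBelow_add (rfl : allBelow 0 (blockAt 1) = true) block_ok1_part0 (by omega : 0 + 540 = 540)) block_ok1_part1 (by omega : 540 + 540 = 1080))

theorem block_ok2_part0 : allFrom 0 540 (blockAt 2) = true := by decide +kernel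

theorem block_ok2_part1 : allFrom 540 540 (blockAt 2) = true := by decide +kernel

theorem block_ok2 : allBelow 1080 (blockAt 2) = true :=
  (allBelow_add (allBelow_add (rfl : allBelow 0 (blockAt 2) = true) block_ok2_part0 (by omega : 0 + 540 = 540)) block_ok2_part1 (by omega : 540 + 540 = 1080))

theorem block_ok3_part0 : allFrom 0 540 (blockAt 3) = true := by decide +kernel

theorem block_ok3_part1 : allFrom 540 540 (blockAt 3) = true := by decide +kernel

theorem block_ok3 : allBelow 1080 (blockAt 3) = true :=
  (allBelow_add (allBelow_add (rfl : allBelow 0 (blockAt 3) = true) block_ok3_part0 (by omega : 0 + 540 = 540)) block_ok3_part1 (by omega : 540 + 540 = 1080))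

theorem block_ok4_part0 : allFrom 0 540 (blockAt 4) = true := by decide +kernel

theorem block_ok4_part1 : allFrom 540 540 (blockAt 4) = true := by decide +kernel

theorem block_ok4 : allBelow 1080 (blockAt 4) = true :=
  (allBelow_add (allBelow_add (rfl : allBelow 0 (blockAt 4) = true) block_ok4_part0 (by omega : 0 + 540 = 540)) block_ok4_part1 (by omega : 540 + 540 = 1080))

theorem block_ok5_part0 : allFrom 0 540 (blockAt 5) = true := by decide +kernel

theorem block_ok5_part1 : allFrom 540 540 (blockAt 5) = true := by decide +kernel

theorem block_ok5 : allBelow 1080 (blockAt 5) = true :=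
  (allBelow_add (allBelow_add (rfl : allBelow 0 (blockAt 5) = true) block_ok5_part0 (by omega : 0 + 540 = 540)) block_ok5_part1 (by omega : 540 + 540 = 1080))

theorem block_ok6_part0 : allFrom 0 540 (blockAt 6) = true := by decide +kernel

theorem block_ok6_part1 : allFrom 540 540 (blockAt 6) = true := by decide +kernel

theorem block_ok6 : allBelow 1080 (blockAt 6) = true :=
  (allBelow_add (allBelow_add (rfl : allBelow 0 (blockAt 6) = true) block_ok6_part0 (by omega : 0 + 540 = 540)) block_ok6_part1 (by omega : 540 + 540 = 1080))

theorem block_ok7_part0 : allFrom 0 540 (blockAt 7) = true := by decide +kernel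

theorem block_ok7_part1 : allFrom 540 540 (blockAt 7) = true := by decide +kernel

theorem block_ok7 : allBelow 1080 (blockAt 7) = true :=
  (allBelow_add (allBelow_add (rfl : allBelow 0 (blockAt 7) = true) block_ok7_part0 (by omega : 0 + 540 = 540)) block_ok7_part1 (by omega : 540 + 540 = 1080))

theorem block_ok8_part0 : allFrom 0 540 (blockAt 8) = true := by decide +kernel

theorem block_ok8_part1 : allFrom 540 540 (blockAt 8) = true := by decide +kernel

theorem block_ok8 : allBelow 1080 (blockAt 8) = true :=
  (allBelow_add (allBelow_add (rfl : allBelow 0 (blockAt 8) = true) block_ok8_part0 (by omega : 0 + 540 = 540)) block_ok8_part1 (by omega : 540 + 540 = 1080))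

theorem block_ok9_part0 : allFrom 0 540 (blockAt 9) = true := by decide +kernel

theorem block_ok9_part1 : allFrom 540 540 (blockAt 9) = true := by decide +kernel

theorem block_ok9 : allBelow 1080 (blockAt 9) = true :=
  (allBelow_add (allBelow_add (rfl : allBelow 0 (blockAt 9) = true) block_ok9_part0 (by omega : 0 + 540 = 540)) block_ok9_part1 (by omega : 540 + 540 = 1080))

theorem block_ok10_part0 : allFrom 0 540 (blockAt 10) = true := by decide +kernel

theorem block_ok10_part1 : allFrom 540 540 (blockAt 10) = true := by decide +kernel

theorem block_ok10 : allBelow 1080 (blockAt 10) = true :=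
  (allBelow_add (allBelow_add (rfl : allBelow 0 (blockAt 10) = true) block_ok10_part0 (by omega : 0 + 540 = 540)) block_ok10_part1 (by omega : 540 + 540 = 1080))

theorem block_ok11_part0 : allFrom 0 540 (blockAt 11) = true := by decide +kernel

theorem block_ok11_part1 : allFrom 540 540 (blockAt 11) = true := by decide +kernel

theorem block_ok11 : allBelow 1080 (blockAt 11) = true :=
  (allBelow_add (allBelow_add (rfl : allBelow 0 (blockAt 11) = true) block_ok11_part0 (by omega : 0 + 540 = 540)) block_ok11_part1 (by omega : 540 + 540 = 1080))

theorem block_ok12_part0 : allFrom 0 540 (blockAt 12) = true := by decide +kernel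

theorem block_ok12_part1 : allFrom 540 540 (blockAt 12) = true := by decide +kernel

theorem block_ok12 : allBelow 1080 (blockAt 12) = true :=
  (allBelow_add (allBelow_add (rfl : allBelow 0 (blockAt 12) = true) block_ok12_part0 (by omega : 0 + 540 = 540)) block_ok12_part1 (by omega : 540 + 540 = 1080))

theorem block_ok13_part0 : allFrom 0 540 (blockAt 13) = true := by decide +kernel

theorem block_ok13_part1 : allFrom 540 540 (blockAt 13) = true := by decide +kernel

theorem block_ok13 : allBelow 1080 (blockAt 13) = true :=
  (allBelow_add (allBelow_add (rfl : allBelow 0 (blockAt 13) = true) block_ok13_part0 (by omega : 0 + 540 = 540)) block_ok13_part1 (by omega : 540 + 540 = 1080))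

theorem block_ok14_part0 : allFrom 0 540 (blockAt 14) = true := by decide +kernel

theorem block_ok14_part1 : allFrom 540 540 (blockAt 14) = true := by decide +kernel

theorem block_ok14 : allBelow 1080 (blockAt 14) = true :=
  (allBelow_add (allBelow_add (rfl : allBelow 0 (blockAt 14) = true) block_ok14_part0 (by omega : 0 + 540 = 540)) block_ok14_part1 (by omega : 540 + 540 = 1080))

end Cfsg.Agent.Lib.FischerExist27.M24Checks
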