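import Cfsg.Agent.Lib.FischerExist27.M24Defs

/-!
The parts of the generators on the blocks.
-/

set_option autoImplicit false
set_option maxRecDepth 20000
set_option Elab.async false

namespace Cfsg.Agent.Lib.FischerExist27.M24Checks

open Cfsg.Agent.Lib.CosetEnum (allBelow allFrom allBelow_add)
open Cfsg.Agent.Lib.FischerExist27.M24Data Cfsg.Agent.Lib.FischerExist27.M24Defs

theorem block_ok15_part0 : allFrom 0 540 (blockAt 15) = true := by decide +kernel

theorem block_ok15_part1 : allFrom 540 540 (blockAt 15) = true := by decide +kernel

theorem block_ok15 : allBelow 1080 (blockAt 15) = true :=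
  (allBelow_add (allBelow_add (rfl : allBelow 0 (blockAt 15) = true) block_ok15_part0 (by omega : 0 + 540 = 540)) block_ok15_part1 (by omega : 540 + 540 = 1080))

theorem block_ok16_part0 : allFrom 0 540 (blockAt 16) = true := by decide +kernel

theorem block_ok16_part1 : allFrom 540 540 (blockAt 16) = true := by decide +kernel

theorem block_ok16 : allBelow 1080 (blockAt 16) = true :=
  (allBelow_add (allBelow_add (rfl : allBelow 0 (blockAt 16) = true) block_ok16_part0 (by omega : 0 + 540 = 540)) block_ok16_part1 (by omega : 540 + 540 = 1080))

theorem block_ok17_part0 : allFrom 0 540 (blockAt 17) = true := by decide +kernel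

theorem block_ok17_part1 : allFrom 540 540 (blockAt 17) = true := by decide +kernel

theorem block_ok17 : allBelow 1080 (blockAt 17) = true :=
  (allBelow_add (allBelow_add (rfl : allBelow 0 (blockAt 17) = true) block_ok17_part0 (by omega : 0 + 540 = 540)) block_ok17_part1 (by omega : 540 + 540 = 1080))

theorem block_ok18_part0 : allFrom 0 540 (blockAt 18) = true := by decide +kernel

theorem block_ok18_part1 : allFrom 540 540 (blockAt 18) = true := by decide +kernel

theorem block_ok18 : allBelow 1080 (blockAt 18) = true :=
  (allBelow_add (allBelow_add (rfl : allBelow 0 (blockAt 18) = true) block_ok18_part0 (by omega : 0 + 540 = 540)) block_ok18_part1 (by omega : 540 + 540 = 1080))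

theorem block_ok19_part0 : allFrom 0 540 (blockAt 19) = true := by decide +kernel

theorem block_ok19_part1 : allFrom 540 540 (blockAt 19) = true := by decide +kernel

theorem block_ok19 : allBelow 1080 (blockAt 19) = true :=
  (allBelow_add (allBelow_add (rfl : allBelow 0 (blockAt 19) = true) block_ok19_part0 (by omega : 0 + 540 = 540)) block_ok19_part1 (by omega : 540 + 540 = 1080))

theorem block_ok20_part0 : allFrom 0 540 (blockAt 20) = true := by decide +kernel

theorem block_ok20_part1 : allFrom 540 540 (blockAt 20) = true := by decide +kernel

theorem block_ok20 : allBelow 1080 (blockAt 20) = true :=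
  (allBelow_add (allBelow_add (rfl : allBelow 0 (blockAt 20) = true) block_ok20_part0 (by omega : 0 + 540 = 540)) block_ok20_part1 (by omega : 540 + 540 = 1080))

theorem block_ok21_part0 : allFrom 0 540 (blockAt 21) = true := by decide +kernel

theorem block_ok21_part1 : allFrom 540 540 (blockAt 21) = true := by decide +kernel

theorem block_ok21 : allBelow 1080 (blockAt 21) = true :=
  (allBelow_add (allBelow_add (rfl : allBelow 0 (blockAt 21) = true) block_ok21_part0 (by omega : 0 + 540 = 540)) block_ok21_part1 (by omega : 540 + 540 = 1080))

theorem block_ok22_part0 : allFrom 0 540 (blockAt 22) = true := by decide +kernel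

theorem block_ok22_part1 : allFrom 540 540 (blockAt 22) = true := by decide +kernel

theorem block_ok22 : allBelow 1080 (blockAt 22) = true :=
  (allBelow_add (allBelow_add (rfl : allBelow 0 (blockAt 22) = true) block_ok22_part0 (by omega : 0 + 540 = 540)) block_ok22_part1 (by omega : 540 + 540 = 1080))

theorem block_ok23_part0 : allFrom 0 540 (blockAt 23) = true := by decide +kernel

theorem block_ok23_part1 : allFrom 540 540 (blockAt 23) = true := by decide +kernel

theorem block_ok23 : allBelow 1080 (blockAt 23) = true :=
  (allBelow_add (allBelow_add (rfl : allBelow 0 (blockAt 23) = true) block_ok23_part0 (by omega : 0 + 540 = 540)) block_ok23_part1 (by omega : 540 + 540 = 1080))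

theorem block_ok24_part0 : allFrom 0 540 (blockAt 24) = true := by decide +kernel

theorem block_ok24_part1 : allFrom 540 540 (blockAt 24) = true := by decide +kernel

theorem block_ok24 : allBelow 1080 (blockAt 24) = true :=
  (allBelow_add (allBelow_add (rfl : allBelow 0 (blockAt 24) = true) block_ok24_part0 (by omega : 0 + 540 = 540)) block_ok24_part1 (by omega : 540 + 540 = 1080))

theorem block_ok25_part0 : allFrom 0 540 (blockAt 25) = true := by decide +kernel

theorem block_ok25_part1 : allFrom 540 540 (blockAt 25) = true := by decide +kernel

theorem block_ok25 : allBelow 1080 (blockAt 25) = true :=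
  (allBelow_add (allBelow_add (rfl : allBelow 0 (blockAt 25) = true) block_ok25_part0 (by omega : 0 + 540 = 540)) block_ok25_part1 (by omega : 540 + 540 = 1080))

theorem block_ok26_part0 : allFrom 0 540 (blockAt 26) = true := by decide +kernel

theorem block_ok26_part1 : allFrom 540 540 (blockAt 26) = true := by decide +kernel

theorem block_ok26 : allBelow 1080 (blockAt 26) = true :=
  (allBelow_add (allBelow_add (rfl : allBelow 0 (blockAt 26) = true) block_ok26_part0 (by omega : 0 + 540 = 540)) block_ok26_part1 (by omega : 540 + 540 = 1080))

theorem block_ok27_part0 : allFrom 0 540 (blockAt 27) = true := by decide +kernel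

theorem block_ok27_part1 : allFrom 540 540 (blockAt 27) = true := by decide +kernel

theorem block_ok27 : allBelow 1080 (blockAt 27) = true :=
  (allBelow_add (allBelow_add (rfl : allBelow 0 (blockAt 27) = true) block_ok27_part0 (by omega : 0 + 540 = 540)) block_ok27_part1 (by omega : 540 + 540 = 1080))

theorem block_ok28_part0 : allFrom 0 540 (blockAt 28) = true := by decide +kernel

theorem block_ok28_part1 : allFrom 540 540 (blockAt 28) = true := by decide +kernel

theorem block_ok28 : allBelow 1080 (blockAt 28) = true :=
  (allBelow_add (allBelow_add (rfl : allBelow 0 (blockAt 28) = true) block_ok28_part0 (by omega : 0 + 540 = 540)) block_ok28_part1 (by omega : 540 + 540 = 1080))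

theorem block_ok29_part0 : allFrom 0 540 (blockAt 29) = true := by decide +kernel

theorem block_ok29_part1 : allFrom 540 540 (blockAt 29) = true := by decide +kernel

theorem block_ok29 : allBelow 1080 (blockAt 29) = true :=
  (allBelow_add (allBelow_add (rfl : allBelow 0 (blockAt 29) = true) block_ok29_part0 (by omega : 0 + 540 = 540)) block_ok29_part1 (by omega : 540 + 540 = 1080))

end Cfsg.Agent.Lib.FischerExist27.M24Checks
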