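import Cfsg.Agent.Lib.FischerExist27.M24Defs

/-!
The actions of the generating transpositions.
-/

set_option autoImplicit false
set_option maxRecDepth 20000
set_option Elab.async false

namespace Cfsg.Agent.Lib.FischerExist27.M24Checks

open Cfsg.Agent.Lib.CosetEnum (allBelow allFrom allBelow_add)
open Cfsg.Agent.Lib.FischerExist27.M24Data Cfsg.Agent.Lib.FischerExist27.M24Defs

theorem gen_ok0_part0 : allFrom 0 1080 (genAt 0) = true := by decide +kernel

theorem gen_ok0_part1 : allFrom 1080 1080 (genAt 0) = true := by decide +kernel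

theorem gen_ok0_part2 : allFrom 2160 1080 (genAt 0) = true := by decide +kernel

theorem gen_ok0 : allBelow 3240 (genAt 0) = true :=
  (allBelow_add (allBelow_add (allBelow_add (rfl : allBelow 0 (genAt 0) = true) gen_ok0_part0 (by omega : 0 + 1080 = 1080)) gen_ok0_part1 (by omega : 1080 + 1080 = 2160)) gen_ok0_part2 (by omega : 2160 + 1080 = 3240))

theorem gen_ok1_part0 : allFrom 0 1080 (genAt 1) = true := by decide +kernel

theorem gen_ok1_part1 : allFrom 1080 1080 (genAt 1) = true := by decide +kernel

theorem gen_ok1_part2 : allFrom 2160 1080 (genAt 1) = true := by decide +kernel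

theorem gen_ok1 : allBelow 3240 (genAt 1) = true :=
  (allBelow_add (allBelow_add (allBelow_add (rfl : allBelow 0 (genAt 1) = true) gen_ok1_part0 (by omega : 0 + 1080 = 1080)) gen_ok1_part1 (by omega : 1080 + 1080 = 2160)) gen_ok1_part2 (by omega : 2160 + 1080 = 3240))

theorem gen_ok2_part0 : allFrom 0 1080 (genAt 2) = true := by decide +kernel

theorem gen_ok2_part1 : allFrom 1080 1080 (genAt 2) = true := by decide +kernel

theorem gen_ok2_part2 : allFrom 2160 1080 (genAt 2) = true := by decide +kernel

theorem gen_ok2 : allBelow 3240 (genAt 2) = true :=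
  (allBelow_add (allBelow_add (allBelow_add (rfl : allBelow 0 (genAt 2) = true) gen_ok2_part0 (by omega : 0 + 1080 = 1080)) gen_ok2_part1 (by omega : 1080 + 1080 = 2160)) gen_ok2_part2 (by omega : 2160 + 1080 = 3240))

theorem gen_ok3_part0 : allFrom 0 1080 (genAt 3) = true := by decide +kernel

theorem gen_ok3_part1 : allFrom 1080 1080 (genAt 3) = true := by decide +kernel

theorem gen_ok3_part2 : allFrom 2160 1080 (genAt 3) = true := by decide +kernel

theorem gen_ok3 : allBelow 3240 (genAt 3) = true :=
  (allBelow_add (allBelow_add (allBelow_add (rfl : allBelow 0 (genAt 3) = true) gen_ok3_part0 (by omega : 0 + 1080 = 1080)) gen_ok3_part1 (by omega : 1080 + 1080 = 2160)) gen_ok3_part2 (by omega : 2160 + 1080 = 3240))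

theorem gen_ok4_part0 : allFrom 0 1080 (genAt 4) = true := by decide +kernel

theorem gen_ok4_part1 : allFrom 1080 1080 (genAt 4) = true := by decide +kernel

theorem gen_ok4_part2 : allFrom 2160 1080 (genAt 4) = true := by decide +kernel

theorem gen_ok4 : allBelow 3240 (genAt 4) = true :=
  (allBelow_add (allBelow_add (allBelow_add (rfl : allBelow 0 (genAt 4) = true) gen_ok4_part0 (by omega : 0 + 1080 = 1080)) gen_ok4_part1 (by omega : 1080 + 1080 = 2160)) gen_ok4_part2 (by omega : 2160 + 1080 = 3240))

end Cfsg.Agent.Lib.FischerExist27.M24Checks
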