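import Cfsg.Agent.Lib.FischerExist27.M24Defs

/-!
The checks hold.
-/

set_option autoImplicit false
set_option maxRecDepth 20000
set_option Elab.async false

namespace Cfsg.Agent.Lib.FischerExist27.M24Checks

open Cfsg.Agent.Lib.CosetEnum (allBelow allFrom allBelow_add)
open Cfsg.Agent.Lib.FischerExist27.M24Data Cfsg.Agent.Lib.FischerExist27.M24Defs

theorem s_ok : allBelow 3240 sAt = true := by decide +kernel

theorem reach_ok : allBelow 3240 reachAt = true := by decide +kernel

theorem reach0_ok : allBelow 1080 reach0At = true := by decide +kernel

theorem reach1_ok : allBelow 3240 reach1At = true := by decide +kernel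

end Cfsg.Agent.Lib.FischerExist27.M24Checks
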