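import Cfsg.Agent.Lib.FischerExist27.M24Data
import Cfsg.Agent.Lib.O8Three.Defs
import Cfsg.Agent.Lib.Fi24.Points
import Cfsg.Agent.Lib.Fi24.Data.Suborbits

/-!
The checks on the 3240 transpositions of the presented Fi24.
-/

set_option autoImplicit false

namespace Cfsg.Agent.Lib.FischerExist27.M24Defs

open Cfsg.Agent.Lib.CosetEnum (force allBelow)
open Cfsg.Agent.Lib.Computation (getW)
open Cfsg.Agent.Lib.O8Three.Defs (dig)
open Cfsg.Agent.Lib.FischerExist27.M24Data
open Cfsg.Agent.Lib.Fi24 (table small subPos)

/-- The coset of an index. -/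
def sPt (i : ℕ) : ℕ := getW 19 sPts i

/-- The image of an index under a generating transposition. -/
def perm (k i : ℕ) : ℕ := getW 12 (perms.getD k 0) i

/-- The word of the transposition at the end of a path. -/
def cw (P : List ℕ) : List ℕ := P.reverse ++ [0] ++ P

/-- The word of the second transposition. -/
def cWord : List ℕ := [1, 0, 1]

/-- An index is a member fixed by the second transposition. -/
noncomputable def sAt (i : ℕ) : Bool :=
  force (sPt i) fun q => force (Fi24.Cert.col19 subPos q) fun m =>
    Nat.blt m 31671 && Nat.beq (Fi24.Cert.col19 small m) q && Nat.beq (getW 12 sInv m) i &&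
      Nat.beq (Fi24.Cert.scanT table cWord q) q

/-- Every fixed member of the small suborbit is an index. -/
noncomputable def allAt (m : ℕ) : Bool :=
  force (Fi24.Cert.col19 small m) fun q => Bool.rec true
    (Nat.blt (getW 12 sInv m) 3240 && Nat.beq (sPt (getW 12 sInv m)) q)
    (Nat.beq (Fi24.Cert.scanT table cWord q) q)

/-- The action of a generating transposition on one index. -/
noncomputable def genAt (k i : ℕ) : Bool :=
  force (perm k i) fun j => Nat.blt j 3240 && Nat.beq (perm k j) i &&
    Nat.beq (Fi24.Cert.scanT table (cw (genPaths.getD k [])) (sPt i)) (sPt j)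

/-- An index is reached from the generating ones. -/
def reachAt (i : ℕ) : Bool :=
  Nat.blt (getW 4 byGen i) 10 &&
    if Nat.beq (getW 4 ranks i) 0 then Nat.beq (genIdx.getD (getW 4 byGen i) 0) i
    else Nat.blt (getW 12 fromIdx i) 3240 &&
      Nat.blt (getW 4 ranks (getW 12 fromIdx i)) (getW 4 ranks i) &&
      Nat.beq (perm (getW 4 byGen i) (getW 12 fromIdx i)) i

/-- A point of the first block is reached inside it. -/
def reach0At (i : ℕ) : Bool :=
  Nat.blt (getW 4 byGen0 i) 9 &&
    if Nat.beq (getW 4 ranks0 i) 0 then Nat.beq (genIdx.getD (getW 4 byGen0 i) 0) i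
    else Nat.blt (getW 12 fromIdx0 i) 1080 &&
      Nat.blt (getW 4 ranks0 (getW 12 fromIdx0 i)) (getW 4 ranks0 i) &&
      Nat.beq (perm (getW 4 byGen0 i) (getW 12 fromIdx0 i)) i

/-- An index outside the first block is reached from the first one there. -/
def reach1At (i : ℕ) : Bool :=
  Nat.blt i 1080 || Nat.beq i 1080 ||
    (Nat.blt (getW 4 byGen1 i) 9 && Nat.blt (getW 12 fromIdx1 i) 3240 &&
      Nat.ble 1080 (getW 12 fromIdx1 i) &&
      Nat.blt (getW 4 ranks1 (getW 12 fromIdx1 i)) (getW 4 ranks1 i) &&
      Nat.beq (perm (getW 4 byGen1 i) (getW 12 fromIdx1 i)) i)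

/-- The value of the polar form on codes. -/
def polN (c x : ℕ) : ℕ :=
  (dig c 4 * dig x 0 + dig c 5 * dig x 1 + dig c 6 * dig x 2 + dig c 7 * dig x 3 + dig c 0 * dig x 4 +
    dig c 1 * dig x 5 + dig c 2 * dig x 6 + dig c 3 * dig x 7) % 3

/-- A digit of a reflected code. -/
def rdig (c x s k : ℕ) : ℕ := (dig x k + (3 - s) * dig c k) % 3

/-- The code of a reflected vector. -/
noncomputable def reflN (c x : ℕ) : ℕ :=
  force (polN c x) fun s =>
    rdig c x s 0 + 3 * rdig c x s 1 + 9 * rdig c x s 2 + 27 * rdig c x s 3 + 81 * rdig c x s 4 +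
      243 * rdig c x s 5 + 729 * rdig c x s 6 + 2187 * rdig c x s 7

/-- The point of a code moved by a list of reflections, the last first. -/
noncomputable def reflW (l : List ℕ) (r : ℕ) : ℕ :=
  O8Three.Defs.ix (List.rec (motive := fun _ => ℕ → ℕ) (fun x => x)
    (fun i _ ih x => force (ih x) fun y => reflN (O8Three.Defs.pt i) y) l (O8Three.Defs.pt r))

/-- The block where a generator sends a block. -/
def tau (k a : ℕ) : ℕ :=
  if k < 9 then (if a = 1 then 2 else if a = 2 then 1 else a)
  else (if a = 0 then 2 else if a = 2 then 0 else a)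

/-- The part of a generator on a block. -/
noncomputable def blockAt (n r : ℕ) : Bool :=
  Nat.beq (perm (n / 3) (1080 * (n % 3) + r)) (1080 * tau (n / 3) (n % 3) + Nat.mod (reflW (reflWords.getD n []) r) 1080)

end Cfsg.Agent.Lib.FischerExist27.M24Defs
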