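import Cfsg.Agent.Lib.FischerExist27.O8Refl
import Cfsg.Agent.Lib.FischerExist27.M24Defs

/-!
The coded reflections are the reflections on the points.
-/

set_option autoImplicit false
set_option maxRecDepth 20000

namespace Cfsg.Agent.Lib.FischerExist27.M24Refl

open scoped Matrix
open Cfsg.Agent.Lib.O8Three.Rep Cfsg.Agent.Lib.FischerExist27.O8
open Cfsg.Agent.Lib.FischerExist27.M24Defs
open Cfsg.Agent.Lib.O8Three.Defs (dig pt ix)
open Cfsg.Agent.Lib.CosetEnum (force force_eq)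

local instance fact_three : Fact (Nat.Prime 3) := ⟨Nat.prime_three⟩

theorem dig_pack {a b c d e f g h : ℕ} (ha : a < 3) (hb : b < 3) (hc : c < 3) (hd : d < 3) (he : e < 3)
    (hf : f < 3) (hg : g < 3) (hh : h < 3) (n : ℕ)
    (hn : n = a + 3 * b + 9 * c + 27 * d + 81 * e + 243 * f + 729 * g + 2187 * h) :
    n < 6561 ∧ dig n 0 = a ∧ dig n 1 = b ∧ dig n 2 = c ∧ dig n 3 = d ∧ dig n 4 = e ∧ dig n 5 = f ∧
      dig n 6 = g ∧ dig n 7 = h := by
  simp only [dig]
  norm_num
  omega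

theorem rdig_lt (c x s k : ℕ) : rdig c x s k < 3 := Nat.mod_lt _ (by norm_num)

theorem reflN_lt (c x : ℕ) : reflN c x < 6561 := by
  rw [reflN, force_eq]
  exact (dig_pack (rdig_lt ..) (rdig_lt ..) (rdig_lt ..) (rdig_lt ..) (rdig_lt ..) (rdig_lt ..)
    (rdig_lt ..) (rdig_lt ..) _ rfl).1

theorem vec_reflN (c x : ℕ) : vec (reflN c x) = O8.refl (vec c) (vec x) := by
  have hs : ((polN c x : ℕ) : ZMod 3) = pol (vec c) (vec x) := by
    simp [polN, pol, vec, dotProduct, Fintype.sum_sum_type, Fin.sum_univ_four, rk,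
      ChevClassical.D4.rk, Nat.cast_add]
    ring
  have hle : polN c x ≤ 3 := (Nat.mod_lt _ (by norm_num : 0 < 3)).le
  have key : ∀ k, ((rdig c x (polN c x) k : ℕ) : ZMod 3) =
      (dig x k : ZMod 3) - pol (vec c) (vec x) * (dig c k : ZMod 3) := fun k => by
    rw [rdig, ZMod.natCast_mod, Nat.cast_add, Nat.cast_mul, Nat.cast_sub hle, hs,
      ZMod.natCast_self]
    ring
  obtain ⟨-, h0, h1, h2, h3, h4, h5, h6, h7⟩ := dig_pack (rdig_lt c x (polN c x) 0)
    (rdig_lt c x (polN c x) 1) (rdig_lt c x (polN c x) 2) (rdig_lt c x (polN c x) 3)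
    (rdig_lt c x (polN c x) 4) (rdig_lt c x (polN c x) 5) (rdig_lt c x (polN c x) 6)
    (rdig_lt c x (polN c x) 7) _ rfl
  funext a
  rw [reflN, force_eq]
  show ((dig _ (rk a) : ℕ) : ZMod 3) = _
  rcases a with i | i <;> fin_cases i <;>
    simp [rk, ChevClassical.D4.rk, h0, h1, h2, h3, h4, h5, h6, h7, key, O8.refl, vec]

theorem reflW_eq (l : List (Fin 1080)) (r : Fin 1080) :
    (onPoints (l.map rR).prod r).1 = reflW (l.map Fin.val) r.1 % 1080 := by
  suffices h : ∀ l : List (Fin 1080), ∃ n < 6561,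
      List.rec (motive := fun _ => ℕ → ℕ) (fun x => x)
        (fun i _ ih x => force (ih x) fun y => reflN (pt i) y) (l.map Fin.val) (pt r.1) = n ∧
      (l.map rR).prod.1.1 *ᵥ rv r = vec n by
    obtain ⟨n, hn, he, hv⟩ := h l
    rw [onPoints_apply, hv, reflW, he]
    show ix (code (vec n)) % 1080 = _
    rw [code_vec n hn]
  intro l
  induction l with
  | nil => exact ⟨_, (pt_spec r).1, rfl, Matrix.one_mulVec _⟩
  | cons i l ih =>
    obtain ⟨n, -, he, hv⟩ := ih
    refine ⟨reflN (pt i.1) n, reflN_lt _ _, ?_, ?_⟩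
    · show force _ _ = _
      rw [force_eq, he]
    · rw [List.map_cons, List.prod_cons, vec_reflN, ← hv]
      show ((rR i).1.1 * _) *ᵥ rv r = _
      rw [← Matrix.mulVec_mulVec, rR, reflI_mulVec]
      rfl

end Cfsg.Agent.Lib.FischerExist27.M24Refl
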