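import Cfsg.Agent.Lib.FischerExist27.O8Refl

/-!
Three blocks of 1080 points permuted by reflections: the extension of the simple orthogonal group in
dimension eight by the symmetric group of degree three.
-/

set_option autoImplicit false
set_option maxRecDepth 20000

namespace Cfsg.Agent.Lib.FischerExist27.Triality

open Cfsg.Agent.Lib.O8Three.Rep Cfsg.Agent.Lib.FischerExist27.O8

local instance fact_three : Fact (Nat.Prime 3) := ⟨Nat.prime_three⟩

/-- The indices. -/
abbrev Ix : Type := Fin 3 × Fin 1080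

/-- Apply a word. -/
def app (p : Fin 10 → Equiv.Perm Ix) (w : List (Fin 10)) (i : Ix) : Ix :=
  w.foldl (fun i k => p k i) i

/-- The hypotheses on the permutations of the indices. -/
structure Data (p : Fin 10 → Equiv.Perm Ix) (q : Ix → Equiv.Perm Ix) (c : Fin 9 → Fin 1080) :
    Prop where
  equivariant : ∀ x ∈ Subgroup.closure (Set.range p), ∀ i, x * q i * x⁻¹ = q (x i)
  base : ∀ k : Fin 9, q (0, c k) = p k.castSucc ∧
    ∀ r, p k.castSucc (0, r) = (0, onPoints (rR (c k)) r)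
  blocks : ∀ k : Fin 10, ∀ a, ∃ l : List (Fin 1080), l.length % 2 = 1 ∧
    ∀ r, p k (a, r) = ((if k.1 < 9 then Equiv.swap 1 2 else Equiv.swap 0 2 : Equiv.Perm (Fin 3)) a,
      onPoints (l.map rR).prod r)
  classes : ∀ k, ab (rR (c k)) = ab (rR (c 0))
  reach₀ : ∃ rank : Fin 1080 → ℕ, ∀ r, (∃ k, c k = r) ∨
    ∃ k : Fin 9, ∃ r', rank r' < rank r ∧ onPoints (rR (c k)) r' = r
  reach₁ : ∃ rank : Ix → ℕ, ∀ i : Ix, i.1 ≠ 0 → i = (1, 0) ∨
    ∃ k : Fin 9, ∃ j : Ix, j.1 ≠ 0 ∧ rank j < rank i ∧ p k.castSucc j = i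
  fixed : ∃ ws : List (List (Fin 10)), (∀ w ∈ ws, (∀ k ∈ w, k.1 < 9) ∧ app p w (1, 0) = (1, 0)) ∧
    ∀ r, (∀ w ∈ ws, app p w (1, r) = (1, r)) → r = 0
  pair : ∃ i j, onPoints (rR i * rR j) ≠ 1

variable {p : Fin 10 → Equiv.Perm Ix} {q : Ix → Equiv.Perm Ix} {c : Fin 9 → Fin 1080}

/-- Block-diagonal permutations with the classes of their parts given by the sign. -/
def Shape (η : ℤˣ →* Abelianization Iso) (x : Equiv.Perm Ix) : Prop :=
  ∃ π : Equiv.Perm (Fin 3), ∀ a, ∃ g : Iso, ab g = η (Equiv.Perm.sign π) ∧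
    ∀ r, x (a, r) = (π a, onPoints g r)

theorem units_hom {A : Type*} [CommGroup A] (e : A) (he : e * e = 1) :
    ∃ η : ℤˣ →* A, η (-1) = e := by
  refine ⟨MonoidHom.mk' (fun u => if u = 1 then 1 else e) fun u v => ?_, ?_⟩
  swap
  · show (if (-1 : ℤˣ) = 1 then (1 : A) else e) = e
    exact if_neg (by decide)
  rcases Int.units_eq_one_or u with rfl | rfl <;> rcases Int.units_eq_one_or v with rfl | rfl <;>
    simp [he, show (-1 : ℤˣ) ≠ 1 by decide]

theorem ab_sq (i : Fin 1080) : ab (rR i) * ab (rR i) = 1 := by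
  rw [← map_mul, show rR i * rR i = 1 from iso_ext fun x => by
    show ((rR i).1.1 * (rR i).1.1).mulVec x = _
    rw [← Matrix.mulVec_mulVec, rR, reflI_mulVec, reflI_mulVec, refl_refl _ _ (q_rv i)]
    exact (Matrix.one_mulVec x).symm, map_one]

theorem exists_extension (h : Data p q c) :
    ∃ N : Subgroup ↥(Subgroup.closure (Set.range p)), ∃ _ : N.Normal,
      Nonempty (↥N ≃* T) ∧
      Nonempty (↥(Subgroup.closure (Set.range p)) ⧸ N ≃* Equiv.Perm (Fin 3)) := by
  classical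
  set P := Subgroup.closure (Set.range p) with hP
  have hpm : ∀ k, p k ∈ P := fun k => Subgroup.subset_closure ⟨k, rfl⟩
  let e0 := ab (rR (c 0))
  obtain ⟨rank₀, hr₀⟩ := h.reach₀
  -- block 0
  have hq : ∀ r, ab (rR r) = e0 ∧ q (0, r) ∈ P ∧ (∀ s, q (0, r) (0, s) = (0, onPoints (rR r) s)) ∧
      ∀ a s, (q (0, r) (a, s)).1 = Equiv.swap (1 : Fin 3) 2 a := by
    have hblk : ∀ (k : Fin 9) (i : Ix), (p k.castSucc i).1 = Equiv.swap (1 : Fin 3) 2 i.1 := by
      rintro k ⟨a, s⟩
      obtain ⟨l, -, hl⟩ := h.blocks k.castSucc a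
      rw [hl, if_pos (by simp)]
    intro r
    induction hn : rank₀ r using Nat.strong_induction_on generalizing r with
    | _ n ih =>
      rcases hr₀ r with ⟨k, rfl⟩ | ⟨k, r', hlt, rfl⟩
      · rw [(h.base k).1]
        exact ⟨h.classes k, hpm _, (h.base k).2, fun a s => hblk k (a, s)⟩
      · obtain ⟨h1, h2, h3, h4⟩ := ih _ (hn ▸ hlt) r' rfl
        have e : q (0, onPoints (rR (c k)) r') = p k.castSucc * q (0, r') * (p k.castSucc)⁻¹ := by
          rw [h.equivariant _ (hpm _), (h.base k).2]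
        refine ⟨(ab_conj _ _).trans h1, e ▸ mul_mem (mul_mem (hpm _) h2) (inv_mem (hpm _)),
          fun s => ?_, fun a s => ?_⟩
        · obtain ⟨t, rfl⟩ := (onPoints (rR (c k))).surjective s
          rw [e, ← (h.base k).2 t]
          simp only [Equiv.Perm.mul_apply, Equiv.Perm.inv_def, Equiv.symm_apply_apply]
          rw [h3, (h.base k).2, ← rR_conj]
          simp
        · obtain ⟨⟨b, t⟩, hbt⟩ := (p k.castSucc).surjective (a, s)
          have hab := hblk k (b, t)
          rw [hbt] at hab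
          rw [e, ← hbt]
          simp only [Equiv.Perm.mul_apply, Equiv.Perm.inv_def, Equiv.symm_apply_apply]
          rw [hblk, h4, show b = Equiv.swap (1 : Fin 3) 2 a by rw [show a = _ from hab]; simp]
          simp
  have he2 : e0 * e0 = 1 := ab_sq _
  obtain ⟨η, hη⟩ := units_hom e0 he2
  have hshape : ∀ x ∈ P, Shape η x := by
    intro x hx
    induction hx using Subgroup.closure_induction with
    | mem x hx =>
      obtain ⟨k, rfl⟩ := hx
      refine ⟨if k.1 < 9 then Equiv.swap 1 2 else Equiv.swap 0 2, fun a => ?_⟩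
      obtain ⟨l, hl, hp⟩ := h.blocks k a
      refine ⟨(l.map rR).prod, ?_, hp⟩
      rw [show Equiv.Perm.sign (if k.1 < 9 then Equiv.swap (1 : Fin 3) 2 else Equiv.swap 0 2) = -1 by
        split_ifs <;> simp [Equiv.Perm.sign_swap'], hη]
      have : ab (l.map rR).prod = e0 ^ l.length := by
        show Abelianization.of _ = _
        rw [map_list_prod, List.map_map, List.prod_eq_pow_card (l.map _) e0 fun x hx => by
          obtain ⟨i, -, rfl⟩ := List.mem_map.1 hx
          exact (hq i).1, List.length_map]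
      rw [this, ← Nat.div_add_mod l.length 2, hl, pow_succ, pow_mul, pow_two, he2, one_pow, one_mul]
    | one => exact ⟨1, fun a => ⟨1, by simp, fun r => by simp⟩⟩
    | mul x y _ _ hx hy =>
      obtain ⟨π, hπ⟩ := hx
      obtain ⟨π', hπ'⟩ := hy
      refine ⟨π * π', fun a => ?_⟩
      obtain ⟨g', hg', hy'⟩ := hπ' a
      obtain ⟨g, hg, hx'⟩ := hπ (π' a)
      refine ⟨g * g', ?_, fun r => ?_⟩
      · rw [Equiv.Perm.sign_mul, map_mul η]
        exact (map_mul Abelianization.of g g').trans (congrArg₂ (· * ·) hg hg')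
      rw [Equiv.Perm.mul_apply, hy', hx', map_mul]; rfl
    | inv x _ hx =>
      obtain ⟨π, hπ⟩ := hx
      refine ⟨π⁻¹, fun a => ?_⟩
      obtain ⟨g, hg, hx'⟩ := hπ (π⁻¹ a)
      refine ⟨g⁻¹, ?_, fun r => ?_⟩
      · rw [Equiv.Perm.sign_inv, ← Int.units_inv_eq_self (Equiv.Perm.sign π), map_inv η]
        exact (map_inv Abelianization.of g).trans (congrArg _ hg)
      rw [Equiv.Perm.inv_eq_iff_eq, hx', map_inv]
      simp
  choose π hπ using fun x : ↥P => hshape x.1 x.2
  choose g hg hgr using hπ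
  have huniq : ∀ (x : ↥P) (τ : Equiv.Perm (Fin 3)), (∀ a, (x.1 (a, 0)).1 = τ a) → π x = τ :=
    fun x τ hτ => Equiv.ext fun a => by rw [← hτ, hgr]
  let β : ↥P →* Equiv.Perm (Fin 3) := MonoidHom.mk' π fun x y => huniq _ _ fun a => by
    rw [Subgroup.coe_mul, Equiv.Perm.mul_apply, hgr, hgr]; rfl
  have hβ : Function.Surjective β := by
    have h0 : π ⟨p 0, hpm 0⟩ = Equiv.swap 1 2 := huniq _ _ fun a => by
      obtain ⟨l, -, hl⟩ := h.blocks 0 a; rw [hl, if_pos (by simp)]
    have h9 : π ⟨p 9, hpm 9⟩ = Equiv.swap 0 2 := huniq _ _ fun a => by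
      obtain ⟨l, -, hl⟩ := h.blocks 9 a; rw [hl, if_neg (by decide)]
    rw [← MonoidHom.range_eq_top, eq_top_iff]
    intro σ _
    have ha : Equiv.swap (1 : Fin 3) 2 ∈ β.range := ⟨_, h0⟩
    have hb : Equiv.swap (0 : Fin 3) 2 ∈ β.range := ⟨_, h9⟩
    have key : ∀ σ : Equiv.Perm (Fin 3), σ = 1 ∨ σ = Equiv.swap 1 2 ∨ σ = Equiv.swap 0 2 ∨
        σ = Equiv.swap 1 2 * Equiv.swap 0 2 ∨ σ = Equiv.swap 0 2 * Equiv.swap 1 2 ∨
        σ = Equiv.swap 1 2 * Equiv.swap 0 2 * Equiv.swap 1 2 := by decide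
    rcases key σ with rfl | rfl | rfl | rfl | rfl | rfl
    exacts [one_mem _, ha, hb, mul_mem ha hb, mul_mem hb ha, mul_mem (mul_mem ha hb) ha]
  refine ⟨β.ker, inferInstance, ?_, ⟨QuotientGroup.quotientKerEquivOfSurjective β hβ⟩⟩
  have hker : ∀ (x : ↥β.ker) (a : Fin 3) r,
      (x : ↥P).1 (a, r) = (a, onPoints (g x a) r) ∧ ab (g x a) = 1 := fun x a r => by
    have e : π x = 1 := x.2
    refine ⟨by rw [hgr, e]; rfl, by rw [hg, e]; simp⟩
  let f : ↥β.ker →* Equiv.Perm (Fin 1080) := MonoidHom.mk' (fun x => onPoints (g x 0)) fun x y =>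
    Equiv.ext fun r => congrArg Prod.snd (show ((0 : Fin 3), _) = (0, _) from by
      rw [Equiv.Perm.mul_apply, ← (hker _ 0 r).1, ← (hker x 0 _).1, ← (hker y 0 r).1]; rfl)
  have hinj : Function.Injective f := by
    rw [injective_iff_map_eq_one]
    intro x hx
    have h0 : ∀ r, (x : ↥P).1 (0, r) = (0, r) := fun r => by
      rw [(hker x 0 r).1, show onPoints (g x 0) = 1 from hx]; rfl
    have hcomm : ∀ (k : Fin 9) i, p k.castSucc ((x : ↥P).1 i) = (x : ↥P).1 (p k.castSucc i) := by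
      intro k i
      have e := h.equivariant _ (x : ↥P).2 (0, c k)
      rw [h0, (h.base k).1, mul_inv_eq_iff_eq_mul] at e
      rw [← Equiv.Perm.mul_apply, ← e, Equiv.Perm.mul_apply]
    obtain ⟨ws, hws, hwu⟩ := h.fixed
    have happ : ∀ w : List (Fin 10), (∀ k ∈ w, k.1 < 9) → ∀ i,
        app p w ((x : ↥P).1 i) = (x : ↥P).1 (app p w i) := by
      intro w
      induction w with
      | nil => exact fun _ i => rfl
      | cons k w ih =>
        intro hw i
        have hk : k = (⟨k.1, hw k List.mem_cons_self⟩ : Fin 9).castSucc := rfl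
        show app p w (p k _) = _
        rw [hk, hcomm, ih fun l hl => hw l (List.mem_cons_of_mem _ hl)]
        rfl
    have h10 : (x : ↥P).1 (1, 0) = (1, 0) := by
      rw [(hker x 1 0).1, hwu (onPoints (g x 1) 0) fun w hw => ?_]
      rw [← (hker x 1 0).1, happ w (hws w hw).1, (hws w hw).2]
    obtain ⟨rank₁, hr₁⟩ := h.reach₁
    have hfix : ∀ n i, rank₁ i = n → i.1 ≠ 0 → (x : ↥P).1 i = i := by
      intro n
      induction n using Nat.strong_induction_on with
      | _ n ih =>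
        intro i hi hi0
        rcases hr₁ i hi0 with rfl | ⟨k, j, hj0, hlt, rfl⟩
        · exact h10
        · rw [← hcomm, ih _ (hi ▸ hlt) j rfl hj0]
    refine Subtype.ext (Subtype.ext (Equiv.ext fun i => ?_))
    obtain ⟨a, r⟩ := i
    rcases eq_or_ne a 0 with rfl | ha
    · exact h0 r
    · exact hfix _ _ rfl ha
  have hrange : f.range = θ₀.range := by
    refine le_antisymm ?_ ?_
    · rintro _ ⟨x, rfl⟩
      exact onPoints_mem_range (hker x 0 0).2
    · obtain ⟨i₀, j₀, hne⟩ := h.pair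
      refine range_le (fun i => (hq i).1) he2 hne _ fun i j => ?_
      have hx : (⟨q (0, i) * q (0, j), mul_mem (hq i).2.1 (hq j).2.1⟩ : ↥P) ∈ β.ker :=
        huniq _ 1 fun a => by
          rw [Equiv.Perm.mul_apply, ← Prod.eta (q (0, j) (a, 0)), (hq i).2.2.2, (hq j).2.2.2]
          simp
      refine ⟨⟨_, hx⟩, Equiv.ext fun r => congrArg Prod.snd (show ((0 : Fin 3), _) = (0, _) from ?_)⟩
      refine (hker ⟨_, hx⟩ 0 r).1.symm.trans ?_
      show (q (0, i) * q (0, j)) (0, r) = _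
      rw [Equiv.Perm.mul_apply, (hq j).2.2.1, (hq i).2.2.1, map_mul]
      rfl
  exact ⟨(MonoidHom.ofInjective hinj).trans
    ((MulEquiv.subgroupCongr hrange).trans (MonoidHom.ofInjective θ₀_injective).symm)⟩

end Cfsg.Agent.Lib.FischerExist27.Triality
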