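import Cfsg.Agent.Lib.FischerExist27.M24Base
import Cfsg.Agent.Lib.FischerExist27.Triality
import Cfsg.Agent.Lib.FischerExist27.ConjModel
import Cfsg.Agent.Lib.FischerExist27.M24Refl
import Cfsg.Agent.Lib.FischerExist27.M24Checks
import Cfsg.Agent.Lib.FischerExist27.M24CheckAll
import Cfsg.Agent.Lib.FischerExist27.M24CheckGen0
import Cfsg.Agent.Lib.FischerExist27.M24CheckGen1
import Cfsg.Agent.Lib.FischerExist27.M24CheckBlock0
import Cfsg.Agent.Lib.FischerExist27.M24CheckBlock1

/-!
The transpositions commuting with two that do not commute: an extension of the simple orthogonal group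
in dimension eight by the symmetric group of degree three.
-/

set_option autoImplicit false
set_option maxRecDepth 20000
set_option Elab.async false
set_option maxHeartbeats 2000000

namespace Cfsg.Agent.Lib.FischerExist27.M24

open Cfsg.Agent.Lib.CosetEnum (allBelow allBelow_iff force_eq)
open Cfsg.Agent.Lib.Computation (getW)
open Cfsg.Agent.Lib.Fi24 (G xg H table small subPos emb)
open Cfsg.Agent.Lib.FischerExist27.M24Data Cfsg.Agent.Lib.FischerExist27.M24Defs
open Cfsg.Agent.Lib.FischerExist27.Triality (Ix)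
open Cfsg.Agent.Lib.O8Three.Rep (Iso T onPoints)
open Cfsg.Agent.Lib.FischerExist27.O8 (rR)

local instance fact_three : Fact (Nat.Prime 3) := ⟨Nat.prime_three⟩

/-- The number of an index. -/
def enc (i : Ix) : ℕ := 1080 * i.1.1 + i.2.1

/-- The index of a number. -/
def dec (n : ℕ) : Ix := (⟨n / 1080 % 3, Nat.mod_lt _ (by omega)⟩, ⟨n % 1080, Nat.mod_lt _ (by omega)⟩)

theorem enc_lt (i : Ix) : enc i < 3240 := by
  have := i.1.2; have := i.2.2; unfold enc; omega

theorem dec_enc (i : Ix) : dec (enc i) = i := by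
  have := i.1.2; have := i.2.2
  refine Prod.ext (Fin.ext ?_) (Fin.ext ?_) <;> simp only [dec, enc] <;> omega

theorem enc_dec {n : ℕ} (h : n < 3240) : enc (dec n) = n := by
  simp only [dec, enc]; omega

theorem enc_injective : Function.Injective enc := fun i j e => by
  rw [← dec_enc i, e, dec_enc]

theorem s_spec (i : Ix) : sPt (enc i) < 306936 ∧ ∃ m : Fin 31671, (emb m).1 = sPt (enc i) ∧
    getW 12 sInv m.1 = enc i ∧ Fi24.Cert.scanT table cWord (sPt (enc i)) = sPt (enc i) := by
  have h := allBelow_iff.1 M24Checks.s_ok _ (enc_lt i)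
  simp only [sAt, force_eq, Bool.and_eq_true, Nat.blt_eq, Nat.beq_eq] at h
  exact ⟨h.1.1.2 ▸ (Fi24.small_spec h.1.1.1).1, ⟨_, h.1.1.1⟩, h.1.1.2, h.1.2, h.2⟩

/-- The coset of an index. -/
def S (i : Ix) : Fin 306936 := ⟨sPt (enc i), (s_spec i).1⟩

theorem S_injective : Function.Injective S := fun i j e => by
  obtain ⟨-, m, hm, hi, -⟩ := s_spec i
  obtain ⟨-, m', hm', hj, -⟩ := s_spec j
  have : m = m' := Fi24.emb_injective (Fin.ext (hm.trans ((congrArg Fin.val e).trans hm'.symm)))
  exact enc_injective (by rw [← hi, this, hj])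

theorem gen_spec (k : Fin 10) (i : Ix) : perm k.1 (enc i) < 3240 ∧
    perm k.1 (perm k.1 (enc i)) = enc i ∧
    Fi24.Cert.scanT table (cw (genPaths.getD k.1 [])) (sPt (enc i)) = sPt (perm k.1 (enc i)) := by
  have h : allBelow 3240 (genAt k.1) = true := by
    fin_cases k
    exacts [M24Checks.gen_ok0, M24Checks.gen_ok1, M24Checks.gen_ok2, M24Checks.gen_ok3,
      M24Checks.gen_ok4, M24Checks.gen_ok5, M24Checks.gen_ok6, M24Checks.gen_ok7, M24Checks.gen_ok8,
      M24Checks.gen_ok9]
  have h := allBelow_iff.1 h _ (enc_lt i)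
  simp only [genAt, force_eq, Bool.and_eq_true, Nat.blt_eq, Nat.beq_eq] at h
  exact ⟨h.1.1, h.1.2, h.2⟩

/-- The action of a generating transposition on the indices. -/
def gperm (k : Fin 10) : Equiv.Perm Ix :=
  Function.Involutive.toPerm (fun i => dec (perm k.1 (enc i))) fun i => by
    show dec (perm k.1 (enc (dec _))) = i
    rw [enc_dec (gen_spec k i).1, (gen_spec k i).2.1, dec_enc]

theorem enc_gperm (k : Fin 10) (i : Ix) : enc (gperm k i) = perm k.1 (enc i) :=
  enc_dec (gen_spec k i).1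

/-- The index of a generating transposition. -/
def gidx (k : Fin 10) : Ix := dec (genIdx.getD k.1 0)

/-- The points of the generators of the first block. -/
def cpt (k : Fin 9) : Fin 1080 := ⟨genIdx.getD k.1 0 % 1080, Nat.mod_lt _ (by omega)⟩

theorem gidx_ok : ∀ k : Fin 10, genIdx.getD k.1 0 < 3240 ∧
    Fi24.Cert.scanT table (genPaths.getD k.1 []) 0 = sPt (genIdx.getD k.1 0) ∧
    ∀ g ∈ genPaths.getD k.1 [], g < 12 := by decide +kernel

theorem first_ok : ∀ k : Fin 9, gidx k.castSucc = (0, cpt k) ∧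
    reflWords.getD (3 * k.1) [] = [(cpt k).1] ∧ tau k.1 0 = 0 ∧
    chain.getD k.1 0 < 9 ∧ (k.1 = 0 ∨ (chain.getD k.1 0 < k.1 ∧
      perm k.1 (genIdx.getD (chain.getD k.1 0) 0) = perm (chain.getD k.1 0) (genIdx.getD k.1 0))) := by
  decide +kernel

theorem words_ok : ∀ n : Fin 30, (reflWords.getD n.1 []).length % 2 = 1 ∧
    ∀ x ∈ reflWords.getD n.1 [], x < 1080 := by decide +kernel

theorem tau_eq : ∀ (k : Fin 10) (a : Fin 3), tau k.1 a.1 =
    ((if k.1 < 9 then Equiv.swap 1 2 else Equiv.swap 0 2 : Equiv.Perm (Fin 3)) a).1 := by decide +kernel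

theorem fix_ok : (fixWords.all fun w => w.all (fun k => Nat.blt k 9) &&
      Nat.beq (w.foldl (fun i k => perm k i) 1080) 1080) = true ∧
    (allBelow 1080 fun r => Nat.beq r 0 || fixWords.any fun w =>
      !Nat.beq (w.foldl (fun i k => perm k i) (1080 + r)) (1080 + r)) = true := by
  decide +kernel

theorem pair_ok : perm 0 (perm 1 (genIdx.getD 1 0)) ≠ genIdx.getD 1 0 := by decide +kernel

theorem block_spec (k : Fin 10) (a : Fin 3) : ∃ l : List (Fin 1080),
    l.map Fin.val = reflWords.getD (3 * k.1 + a.1) [] ∧ l.length % 2 = 1 ∧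
    ∀ r, gperm k (a, r) = ((if k.1 < 9 then Equiv.swap 1 2 else Equiv.swap 0 2 : Equiv.Perm (Fin 3)) a,
      onPoints (l.map rR).prod r) := by
  have hn : 3 * k.1 + a.1 < 30 := by omega
  obtain ⟨hlen, hlt⟩ := words_ok ⟨_, hn⟩
  obtain ⟨l, hl⟩ : ∃ l : List (Fin 1080), l.map Fin.val = reflWords.getD (3 * k.1 + a.1) [] :=
    ⟨(reflWords.getD (3 * k.1 + a.1) []).pmap (fun x h => (⟨x, h⟩ : Fin 1080)) hlt, by
      rw [List.map_pmap, List.pmap_eq_map, List.map_id']⟩
  refine ⟨l, hl, ?_, fun r => ?_⟩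
  · rwa [← List.length_map Fin.val, hl]
  have hb : ∀ n, n < 30 → allBelow 1080 (blockAt n) = true := by
    intro n hn
    interval_cases n
    exacts [M24Checks.block_ok0, M24Checks.block_ok1, M24Checks.block_ok2, M24Checks.block_ok3,
      M24Checks.block_ok4, M24Checks.block_ok5, M24Checks.block_ok6, M24Checks.block_ok7,
      M24Checks.block_ok8, M24Checks.block_ok9, M24Checks.block_ok10, M24Checks.block_ok11,
      M24Checks.block_ok12, M24Checks.block_ok13, M24Checks.block_ok14, M24Checks.block_ok15,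
      M24Checks.block_ok16, M24Checks.block_ok17, M24Checks.block_ok18, M24Checks.block_ok19,
      M24Checks.block_ok20, M24Checks.block_ok21, M24Checks.block_ok22, M24Checks.block_ok23,
      M24Checks.block_ok24, M24Checks.block_ok25, M24Checks.block_ok26, M24Checks.block_ok27,
      M24Checks.block_ok28, M24Checks.block_ok29]
  have h := allBelow_iff.1 (hb _ hn) r.1 r.2
  rw [blockAt, show (3 * k.1 + a.1) / 3 = k.1 by omega, show (3 * k.1 + a.1) % 3 = a.1 by omega,
    Nat.beq_eq, tau_eq] at h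
  refine enc_injective ?_
  have hlt2 := (gen_spec k (a, r)).1
  rw [enc_gperm, show perm k.1 (enc (a, r)) = _ from h]
  show _ = 1080 * _ + (onPoints _ r).1
  rw [M24Refl.reflW_eq, hl]
  rfl

theorem reach_spec (i : Ix) : (∃ k, gidx k = i) ∨
    ∃ k j, getW 4 ranks (enc j) < getW 4 ranks (enc i) ∧ gperm k j = i := by
  have h := allBelow_iff.1 M24Checks.reach_ok _ (enc_lt i)
  simp only [reachAt, Bool.and_eq_true, Nat.blt_eq] at h
  obtain ⟨hk, h⟩ := h
  split at h
  · refine Or.inl ⟨⟨_, hk⟩, ?_⟩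
    show dec _ = i
    rw [Nat.eq_of_beq_eq_true h, dec_enc]
  · simp only [Bool.and_eq_true, Nat.blt_eq, Nat.beq_eq] at h
    refine Or.inr ⟨⟨_, hk⟩, dec (getW 12 fromIdx (enc i)), by rw [enc_dec h.1.1]; exact h.1.2, ?_⟩
    apply enc_injective
    rw [enc_gperm, enc_dec h.1.1]
    exact h.2

theorem triality_data {q : Ix → Equiv.Perm Ix}
    (hequiv : ∀ x ∈ Subgroup.closure (Set.range gperm), ∀ i, x * q i * x⁻¹ = q (x i))
    (hq : ∀ k, q (gidx k) = gperm k) : Triality.Data gperm q cpt := by
  have hbase : ∀ (k : Fin 9) r, gperm k.castSucc (0, r) = (0, onPoints (rR (cpt k)) r) := by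
    intro k r
    obtain ⟨l, hl, -, h⟩ := block_spec k.castSucc 0
    have e : l = [cpt k] := List.map_injective_iff.2 Fin.val_injective (by
      rw [hl, List.map_singleton]
      exact (first_ok k).2.1)
    rw [h, if_pos (by simp), e]
    simp [show Equiv.swap (1 : Fin 3) 2 0 = 0 by decide]
  have henc : ∀ k : Fin 9, enc (0, cpt k) = genIdx.getD k.1 0 := fun k => by
    rw [← (first_ok k).1]
    exact enc_dec (gidx_ok k.castSucc).1
  exact
    { equivariant := hequiv
      base := fun k => ⟨by rw [← (first_ok k).1, hq], hbase k⟩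
      blocks := fun k a => by
        obtain ⟨l, -, hlen, h⟩ := block_spec k a
        exact ⟨l, hlen, h⟩
      classes := by
        intro k
        induction hn : k.1 using Nat.strong_induction_on generalizing k with
        | _ n ih =>
          obtain ⟨-, -, -, hp9, hp⟩ := first_ok k
          rcases hp with h0 | ⟨hlt, he⟩
          · rw [show k = 0 from Fin.ext h0]
          · rw [← ih _ (hn ▸ hlt) ⟨_, hp9⟩ rfl]
            refine O8.ab_braid ?_
            apply congrArg (Prod.snd : Ix → Fin 1080) (a₁ := ((0 : Fin 3), _)) (a₂ := ((0 : Fin 3), _))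
            apply enc_injective
            rw [← hbase, ← hbase, enc_gperm, enc_gperm, henc, henc]
            exact he
      reach₀ := by
        refine ⟨fun r => getW 4 ranks0 r.1, fun r => ?_⟩
        have hr : enc (0, r) = r.1 := by simp [enc]
        have h := allBelow_iff.1 M24Checks.reach0_ok r.1 r.2
        simp only [reach0At, Bool.and_eq_true, Nat.blt_eq] at h
        obtain ⟨hk, h⟩ := h
        split at h
        · refine Or.inl ⟨⟨_, hk⟩, congrArg Prod.snd (a₁ := ((0 : Fin 3), _)) (a₂ := ((0 : Fin 3), _))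
            (enc_injective ?_)⟩
          show enc (0, cpt ⟨_, hk⟩) = _
          rw [henc, hr]
          exact Nat.eq_of_beq_eq_true h
        · simp only [Bool.and_eq_true, Nat.blt_eq, Nat.beq_eq] at h
          refine Or.inr ⟨⟨_, hk⟩, ⟨_, h.1.1⟩, h.1.2,
            congrArg Prod.snd (a₁ := ((0 : Fin 3), _)) (a₂ := ((0 : Fin 3), _)) (enc_injective ?_)⟩
          rw [← hbase, enc_gperm, hr, show enc (0, ⟨getW 12 fromIdx0 r.1, h.1.1⟩) = getW 12 fromIdx0 r.1 by simp [enc]]
          exact h.2
      reach₁ := by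
        refine ⟨fun i => getW 4 ranks1 (enc i), fun i hi => ?_⟩
        have hpos : 0 < i.1.1 := Nat.pos_of_ne_zero fun e => hi (Fin.ext e)
        have h := allBelow_iff.1 M24Checks.reach1_ok _ (enc_lt i)
        simp only [reach1At, Bool.or_eq_true, Bool.and_eq_true, Nat.blt_eq, Nat.beq_eq, Nat.ble_eq] at h
        rcases h with (h | h) | ⟨⟨⟨⟨hk, hlt⟩, hge⟩, hr⟩, he⟩
        · unfold enc at h; omega
        · refine Or.inl (enc_injective (h.trans ?_))
          rfl
        · refine Or.inr ⟨⟨_, hk⟩, dec (getW 12 fromIdx1 (enc i)), fun e => ?_, ?_, ?_⟩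
          · have e2 := congrArg Fin.val e
            simp only [dec, Fin.val_zero] at e2
            omega
          · show getW 4 ranks1 (enc (dec _)) < _
            rw [enc_dec hlt]
            exact hr
          · apply enc_injective
            rw [enc_gperm, enc_dec hlt]
            exact he
      fixed := by
        obtain ⟨h1, h2⟩ := fix_ok
        simp only [List.all_eq_true, Bool.and_eq_true, Nat.blt_eq, Nat.beq_eq] at h1
        let ws := fixWords.pmap (fun w h => w.pmap (fun k hk => (⟨k, hk⟩ : Fin 10)) h)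
          fun w hw k hk => lt_trans ((h1 w hw).1 k hk) (by omega)
        have happ : ∀ (w : List ℕ) (hw : ∀ k ∈ w, k < 10) (i : Ix),
            enc (Triality.app gperm (w.pmap (fun k hk => (⟨k, hk⟩ : Fin 10)) hw) i) =
              w.foldl (fun i k => perm k i) (enc i) := by
          intro w
          induction w with
          | nil => exact fun _ i => rfl
          | cons k w ih =>
            intro hw i
            rw [List.foldl_cons, ← enc_gperm ⟨k, hw k List.mem_cons_self⟩ i]
            exact ih (fun l hl => hw l (List.mem_cons_of_mem _ hl)) _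
        refine ⟨ws, fun w hw => ?_, fun r hr => ?_⟩
        · obtain ⟨w, hw', rfl⟩ := List.mem_pmap.1 hw
          refine ⟨fun k hk => ?_, enc_injective ?_⟩
          · obtain ⟨k', hk', rfl⟩ := List.mem_pmap.1 hk
            exact (h1 w hw').1 k' hk'
          · rw [happ]
            exact (h1 w hw').2
        · have h := allBelow_iff.1 h2 r.1 r.2
          simp only [Bool.or_eq_true, Nat.beq_eq, List.any_eq_true, Bool.not_eq_true'] at h
          refine Fin.ext (h.resolve_right ?_)
          rintro ⟨w, hw, hne⟩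
          have e := congrArg enc (hr _ (List.mem_pmap.2 ⟨w, hw, rfl⟩))
          rw [happ] at e
          rw [show enc (1, r) = 1080 + r.1 by simp [enc]] at e
          rw [e, show Nat.beq (1080 + r.1) (1080 + r.1) = true from (Nat.beq_eq ..).mpr rfl] at hne
          exact Bool.noConfusion hne
      pair := by
        refine ⟨cpt 0, cpt 1, fun e => pair_ok ?_⟩
        have h : gperm (0 : Fin 9).castSucc (gperm (1 : Fin 9).castSucc (0, cpt 1)) = (0, cpt 1) := by
          rw [hbase, hbase, ← Equiv.Perm.mul_apply, ← map_mul, e]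
          rfl
        have h' := congrArg enc h
        rw [enc_gperm, enc_gperm, henc] at h'
        exact h' }

variable {ρ : G →* Equiv.Perm (Fin 306936)} {ρ₂₃ : M23.X →* Equiv.Perm (Fin 31671)}

theorem common_eq (A : Action ρ ρ₂₃) {h : BaseInvolution ρ o r₁ r₂ d} (C : Class ρ h) :
    {y : G | y ∈ Set.range h.pt ∧ y ≠ d ∧ Commute d y} ∩
      {y : G | y ∈ Set.range h.pt ∧ y ≠ h.pt r₂ ∧ Commute (h.pt r₂) y} =
      Set.range fun i => h.pt (S i) := by
  rw [h.commuting_base, h.commuting_set r₂, ← Set.image_inter h.pt_injective,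
    show (Set.range fun i => h.pt (S i)) = h.pt '' Set.range S from Set.range_comp h.pt S]
  congr 1
  have hc : ∀ j, ρ (h.pt r₂) j = j ↔ Fi24.Cert.scanT table cWord j.1 = j.1 := fun j => by
    rw [Fin.ext_iff, C.word [1] (by simp) r₂ (by decide +kernel)]
    rfl
  ext j
  simp only [Set.mem_inter_iff, Set.mem_setOf_eq, Set.mem_range, hc]
  constructor
  · rintro ⟨⟨hjo, hj0⟩, -, hjc⟩
    obtain ⟨m, rfl⟩ := C.fixed j hjo hj0
    have h' := allBelow_iff.1 M24Checks.all_ok m.1 m.2
    simp only [allAt, force_eq] at h'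
    rw [show Fi24.Cert.col19 small m.1 = (emb m).1 from rfl,
      show Nat.beq (Fi24.Cert.scanT table cWord (emb m).1) (emb m).1 = true from
        (Nat.beq_eq ..).mpr hjc] at h'
    simp only [Bool.and_eq_true, Nat.blt_eq, Nat.beq_eq] at h'
    exact ⟨dec (getW 12 sInv m.1), Fin.ext (by
      show sPt (enc (dec _)) = _
      rw [enc_dec h'.1]; exact h'.2)⟩
  · rintro ⟨i, rfl⟩
    obtain ⟨-, m, hm, -, hfix⟩ := s_spec i
    have he : emb m = S i := Fin.ext hm
    refine ⟨⟨fun e => ?_, he ▸ A.fix m⟩, fun e => ?_, hfix⟩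
    · have := (Fi24.small_spec m.2).2.1
      rw [← small_val, he, e] at this
      exact absurd this (lt_irrefl _)
    · exact C.moved (by rw [← e, ← he, A.fix])

theorem type_part (A : Action ρ ρ₂₃) {h : BaseInvolution ρ o r₁ r₂ d} (C : Class ρ h) :
    ∃ (N : Subgroup (↥(Subgroup.closure ({y : G | y ∈ Set.range h.pt ∧ y ≠ d ∧ Commute d y} ∩
        {y : G | y ∈ Set.range h.pt ∧ y ≠ h.pt r₂ ∧ Commute (h.pt r₂) y})) ⧸
        Subgroup.center ↥(Subgroup.closure ({y : G | y ∈ Set.range h.pt ∧ y ≠ d ∧ Commute d y} ∩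
        {y : G | y ∈ Set.range h.pt ∧ y ≠ h.pt r₂ ∧ Commute (h.pt r₂) y})))) (_ : N.Normal),
      Nonempty (N ≃* Cfsg.POmega (ZMod 3) (Cfsg.quadFormPlus 4 (ZMod 3))) ∧
      Nonempty ((↥(Subgroup.closure ({y : G | y ∈ Set.range h.pt ∧ y ≠ d ∧ Commute d y} ∩
        {y : G | y ∈ Set.range h.pt ∧ y ≠ h.pt r₂ ∧ Commute (h.pt r₂) y})) ⧸
        Subgroup.center ↥(Subgroup.closure ({y : G | y ∈ Set.range h.pt ∧ y ≠ d ∧ Commute d y} ∩
        {y : G | y ∈ Set.range h.pt ∧ y ≠ h.pt r₂ ∧ Commute (h.pt r₂) y}))) ⧸ N ≃* Equiv.Perm (Fin 3)) := by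
  rw [common_eq A C]
  set a₀ : Ix → G := fun i => h.pt (S i) with ha₀
  let a : Ix → ↥(Subgroup.closure (Set.range a₀)) := fun i =>
    ⟨a₀ i, Subgroup.subset_closure ⟨i, rfl⟩⟩
  have hainj : Function.Injective a := fun i j e =>
    S_injective (h.pt_injective (congrArg Subtype.val e))
  have hpa : ∀ k i, a (gidx k) * a i * (a (gidx k))⁻¹ = a (gperm k i) := fun k i => Subtype.ext (by
    show h.pt _ * h.pt _ * (h.pt _)⁻¹ = h.pt _
    rw [h.pt_conj]
    congr 1
    apply Fin.ext
    rw [C.word (genPaths.getD k.1 []) (gidx_ok k).2.2 (S (gidx k))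
      ((gidx_ok k).2.1.trans (by show _ = sPt (enc (gidx k)); rw [gidx, enc_dec (gidx_ok k).1]))]
    show _ = sPt (enc (gperm k i))
    rw [enc_gperm]
    exact (gen_spec k i).2.2)
  have hgen : Subgroup.closure (Set.range (a ∘ gidx)) = ⊤ := by
    rw [closure_eq_of_reach hpa (fun i => getW 4 ranks (enc i)) reach_spec]
    apply Subgroup.map_injective (Subgroup.closure (Set.range a₀)).subtype_injective
    rw [MonoidHom.map_closure, ← MonoidHom.range_eq_map, Subgroup.range_subtype, ← Set.range_comp]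
    rfl
  obtain ⟨φ, hφ, hk, hr⟩ := conj_model hainj hgen hpa
  have huniq : ∀ x (τ : Equiv.Perm Ix), (∀ i, x * a i * x⁻¹ = a (τ i)) → φ x = τ :=
    fun x τ hx => Equiv.ext fun i => hainj ((hφ x i).symm.trans (hx i))
  have hequiv : ∀ x ∈ Subgroup.closure (Set.range gperm), ∀ i,
      x * φ (a i) * x⁻¹ = φ (a (x i)) := by
    intro x hx i
    rw [← hr] at hx
    obtain ⟨y, rfl⟩ := hx
    rw [← map_inv, ← map_mul, ← map_mul, hφ]
  obtain ⟨N, hN, ⟨e₁⟩, ⟨e₂⟩⟩ := Triality.exists_extension
    (triality_data hequiv fun k => huniq _ _ (hpa k))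
  let e := ((QuotientGroup.quotientMulEquivOfEq hk.symm).trans
    (QuotientGroup.quotientKerEquivRange φ)).trans (MulEquiv.subgroupCongr hr)
  have hmap : (N.comap e.toMonoidHom).map e.toMonoidHom = N :=
    Subgroup.map_comap_eq_self_of_surjective e.surjective N
  exact ⟨N.comap e.toMonoidHom, inferInstance,
    ⟨((e.subgroupMap _).trans (MulEquiv.subgroupCongr hmap)).trans e₁⟩,
    ⟨(QuotientGroup.congr _ N e hmap).trans e₂⟩⟩

end Cfsg.Agent.Lib.FischerExist27.M24
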