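import Cfsg.Agent.Lib.FischerExist27.M24Base

/-!
The transpositions of the presented Fi24 commuting with the base one give Fi23.
-/

set_option autoImplicit false
set_option maxRecDepth 20000
set_option Elab.async false
set_option maxHeartbeats 2000000

namespace Cfsg.Agent.Lib.FischerExist27.M24

open Cfsg.Agent.Lib.CosetEnum (allBelow allBelow_iff force_eq get32 rho_scan)
open Cfsg.Agent.Lib.Fi24 (G xg H table small big subPos emb)

theorem typeM23_congr {K : Type*} [Group K] {A B : Subgroup K} (e : A = B) (T : Set K)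
    (h : Cfsg.IsOfTypeM23 (↥B ⧸ Subgroup.center ↥B)
      ((QuotientGroup.mk : ↥B → _) '' {x : ↥B | (x : K) ∈ T})) :
    Cfsg.IsOfTypeM23 (↥A ⧸ Subgroup.center ↥A)
      ((QuotientGroup.mk : ↥A → _) '' {x : ↥A | (x : K) ∈ T}) := by
  subst e; exact h

theorem moved_ok : ∀ g < 10, ∃ m < 31671,
    Fi24.Cert.tget table (Fi24.Cert.col19 small m) (g + 2) ≠ Fi24.Cert.col19 small m := by
  intro g hg
  refine ⟨[8, 6, 5, 4, 3, 2, 1, 0, 5, 7].getD g 0, ?_, ?_⟩
  · interval_cases g <;> decide +kernel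
  · interval_cases g <;> decide +kernel

theorem isConj_first : IsConj M23.d (φ₂₃ 0) := by
  obtain ⟨ρ', h', -, -, -⟩ := M23.main
  obtain ⟨ρ₂₃, hρ, -, -⟩ := CosetEnum.Fi23x31671.enum.action
  haveI : IsSimpleGroup M23.X := Cfsg.Agent.S1697.result.1
  have hinj : Function.Injective ρ₂₃ := by
    rw [← MonoidHom.ker_eq_bot_iff]
    refine (MonoidHom.normal_ker ρ₂₃).eq_bot_or_eq_top.resolve_right fun h => ?_
    have h1 : ρ₂₃ (φ₂₃ 0) = 1 := by rw [← MonoidHom.mem_ker, h]; trivial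
    have h2 := hρ 0 (show 0 < 10 by omega) ⟨8, by omega⟩
    rw [h1, inv_one, Equiv.Perm.one_apply] at h2
    exact absurd h2 (by decide +kernel)
  have hscan := rho_scan CosetEnum.Fi23x31671.letters CosetEnum.Fi23x31671.pres ρ₂₃ hρ
  have hlt : ∀ g ∈ M23.conjWord M23.aPath, g < 10 := by decide +kernel
  have e : φ₂₃ 0 = ((M23.conjWord M23.aPath).map φ₂₃).prod := by
    apply hinj
    apply inv_injective
    refine Equiv.ext fun i => Fin.ext ?_
    rw [hρ 0 (show 0 < 10 by omega), hscan _ hlt i]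
    have := allBelow_iff.1 M23.a_ok.2 i.1 i.2
    rw [Nat.beq_eq] at this
    exact (this.trans (force_eq _ _)).symm
  rw [isConj_iff]
  refine ⟨((M23.aPath.map φ₂₃).prod)⁻¹, ?_⟩
  rw [inv_inv, e, M23.conjWord, List.map_append, List.map_append, List.prod_append, List.prod_append,
    prod_reverse_letters CosetEnum.Fi23x31671.letters CosetEnum.Fi23x31671.pres M23.invol M23.aPath
      (by decide)]
  rfl

variable {ρ : G →* Equiv.Perm (Fin 306936)} {ρ₂₃ : M23.X →* Equiv.Perm (Fin 31671)}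

theorem commuting_eq (A : Action ρ ρ₂₃) {h : BaseInvolution ρ o r₁ r₂ d} (C : Class ρ h) :
    {y : G | y ∈ Set.range h.pt ∧ y ≠ d ∧ Commute d y} = h.pt '' Set.range emb := by
  rw [h.commuting_base]
  congr 1
  ext j
  refine ⟨fun ⟨hjo, hj⟩ => C.fixed j hjo hj, ?_⟩
  rintro ⟨m, rfl⟩
  refine ⟨fun e => ?_, A.fix m⟩
  have := (Fi24.small_spec m.2).2.1
  rw [← small_val, e] at this
  exact absurd this (lt_irrefl _)

theorem letter_mem (A : Action ρ ρ₂₃) {h : BaseInvolution ρ o r₁ r₂ d} {g : ℕ} (hg : g < 10) :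
    xg (g + 2) ∈ {y : G | y ∈ Set.range h.pt ∧ y ≠ d ∧ Commute d y} := by
  refine ⟨?_, fun e => ?_, ?_⟩
  · rw [h.range_pt]; exact isConj_letter _ (by omega)
  · obtain ⟨m, hm, hne⟩ := moved_ok g hg
    have h1 := A.gen (g + 2) (by omega) (emb ⟨m, hm⟩)
    rw [e, A.fix] at h1
    exact hne h1.symm
  · exact (d_central _ (mem_H (by omega) (by omega))).symm

theorem closure_eq (A : Action ρ ρ₂₃) {h : BaseInvolution ρ o r₁ r₂ d} (C : Class ρ h) :
    Subgroup.closure {y : G | y ∈ Set.range h.pt ∧ y ≠ d ∧ Commute d y} = H := by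
  refine le_antisymm ((Subgroup.closure_le _).2 ?_) ((Subgroup.closure_le _).2 ?_)
  · rw [commuting_eq A C]
    rintro _ ⟨_, ⟨m, rfl⟩, rfl⟩
    rw [SetLike.mem_coe, ← A.stabH, h.stab_eq, Subgroup.mem_centralizer_singleton_iff]
    have := h.pt_conj d (emb m)
    rw [A.fix, mul_inv_eq_iff_eq_mul] at this
    exact this.symm
  · rintro _ ⟨g, hg, hg1, rfl⟩
    have hmem : ∀ k, 2 ≤ k → k < 12 →
        xg k ∈ Subgroup.closure {y : G | y ∈ Set.range h.pt ∧ y ≠ d ∧ Commute d y} :=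
      fun k hk hk' => Subgroup.subset_closure (by
        have := letter_mem A (h := h) (g := k - 2) (by omega)
        rwa [show k - 2 + 2 = k by omega] at this)
    rcases Nat.eq_zero_or_pos g with rfl | hpos
    · rw [SetLike.mem_coe, eq_inv_of_mul_eq_one_left Fi24.extra_rels.1]
      refine inv_mem (pow_mem (Subgroup.list_prod_mem _ fun x hx => ?_) 9)
      obtain ⟨k, hk, rfl⟩ := List.mem_map.1 hx
      have hk' : 2 ≤ k ∧ k < 12 :=
        (show ∀ k ∈ Fi24.cox, 2 ≤ k ∧ k < 12 by decide +kernel) k hk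
      exact hmem k hk'.1 hk'.2
    · exact hmem g (by omega) hg

theorem type_stab (A : Action ρ ρ₂₃) {h : BaseInvolution ρ o r₁ r₂ d} (C : Class ρ h) :
    Cfsg.IsOfTypeM23
      (↥(Subgroup.closure {y : G | y ∈ Set.range h.pt ∧ y ≠ d ∧ Commute d y}) ⧸
        Subgroup.center ↥(Subgroup.closure {y : G | y ∈ Set.range h.pt ∧ y ≠ d ∧ Commute d y}))
      ((QuotientGroup.mk :
        ↥(Subgroup.closure {y : G | y ∈ Set.range h.pt ∧ y ≠ d ∧ Commute d y}) → _) ''
        {x : ↥(Subgroup.closure {y : G | y ∈ Set.range h.pt ∧ y ≠ d ∧ Commute d y}) |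
          (x : G) ∈ {y : G | y ∈ Set.range h.pt ∧ y ≠ d ∧ Commute d y}}) := by
  refine typeM23_congr (closure_eq A C) _ ?_
  obtain ⟨ρ', h', -, -, h23⟩ := M23.main
  choose σf hσf using fun x : H => exists_restr A x.1 x.2
  have huniq : ∀ u v : M23.X, (∀ m, emb (ρ₂₃ u m) = emb (ρ₂₃ v m)) → u = v := fun u v e =>
    A.inj23 (Equiv.ext fun m => Fi24.emb_injective (e m))
  let σ : H →* M23.X := MonoidHom.mk' σf fun a b => huniq _ _ fun m => by
    rw [← hσf, Subgroup.coe_mul, map_mul, Equiv.Perm.mul_apply, hσf, hσf, map_mul,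
      Equiv.Perm.mul_apply]
  have hσ : ∀ x : H, ∀ m, ρ x.1 (emb m) = emb (ρ₂₃ (σ x) m) := hσf
  have hσg : ∀ g (hg : g < 10), σ ⟨xg (g + 2), mem_H (by omega) (by omega)⟩ = φ₂₃ g :=
    fun g hg => huniq _ _ fun m => by rw [← hσ, A.gen23 g hg]
  have hsurj : Function.Surjective σ := by
    rw [← MonoidHom.range_eq_top, eq_top_iff,
      ← CosetEnum.Letters.gen_closure (L := CosetEnum.Fi23x31671.letters)
        CosetEnum.Fi23x31671.table_ok.col, Subgroup.closure_le]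
    rintro _ ⟨g, hg, rfl⟩
    exact ⟨_, hσg g hg⟩
  have hdH : d ∈ H := mem_H (by omega) (by omega)
  have hker : σ.ker = Subgroup.center ↥H := by
    refine le_antisymm (fun x hx => ?_) fun x hx => ?_
    · rw [Subgroup.mem_center_iff]
      intro y
      rcases A.kernel x.1 x.2 (fun m => by
        rw [hσ, MonoidHom.mem_ker.1 hx, map_one, Equiv.Perm.one_apply]) with e | e
      · rw [show x = 1 from Subtype.ext e, mul_one, one_mul]
      · exact Subtype.ext (by rw [Subgroup.coe_mul, Subgroup.coe_mul, e]; exact d_central y.1 y.2)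
    · have hc : σ x ∈ Subgroup.center M23.X := Subgroup.mem_center_iff.2 fun z => by
        obtain ⟨y, rfl⟩ := hsurj z
        rw [← map_mul, ← map_mul, Subgroup.mem_center_iff.1 hx y]
      rw [h23.1, Subgroup.mem_bot] at hc
      exact hc
  let e : M23.X ≃* ↥H ⧸ Subgroup.center ↥H :=
    (QuotientGroup.quotientKerEquivOfSurjective σ hsurj).symm.trans
      (QuotientGroup.quotientMulEquivOfEq hker)
  have he : ∀ x : H, e (σ x) = QuotientGroup.mk x := fun x => by
    have : QuotientGroup.quotientKerEquivOfSurjective σ hsurj (QuotientGroup.mk x) = σ x := rfl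
    rw [MulEquiv.trans_apply, ← this, MulEquiv.symm_apply_apply]
    rfl
  refine typeM23_of_equiv e ?_ h23
  rw [h'.range_pt, commuting_eq A C]
  let t₀ : H := ⟨xg 2, mem_H (by omega) (by omega)⟩
  have ht₀ : σ t₀ = φ₂₃ 0 := hσg 0 (by omega)
  obtain ⟨m₀, hm₀⟩ : ∃ m, h.pt (emb m) = xg 2 := by
    have := letter_mem A (h := h) (g := 0) (by omega)
    rw [commuting_eq A C] at this
    obtain ⟨_, ⟨m, rfl⟩, e⟩ := this
    exact ⟨m, e⟩
  have hclass : ∀ u : M23.X, IsConj M23.d u ↔ IsConj (σ t₀) u := fun u => by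
    rw [ht₀]
    exact ⟨isConj_first.symm.trans, isConj_first.trans⟩
  ext y
  constructor
  · rintro ⟨x, ⟨_, ⟨m, rfl⟩, hx⟩, rfl⟩
    obtain ⟨s, hs, hs'⟩ := A.trans23 m₀ m
    have hxe : x = ⟨s, hs⟩ * t₀ * (⟨s, hs⟩ : H)⁻¹ := Subtype.ext (hx.symm.trans (by
      rw [← hs', ← h.pt_conj, hm₀]; rfl))
    refine ⟨σ x, (hclass _).2 (isConj_iff.2 ⟨σ ⟨s, hs⟩, ?_⟩), he x⟩
    rw [hxe, map_mul, map_mul, map_inv]
  · rintro ⟨u, hu, rfl⟩
    obtain ⟨c, rfl⟩ := isConj_iff.1 ((hclass u).1 hu)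
    obtain ⟨s, rfl⟩ := hsurj c
    obtain ⟨z, hz⟩ := exists_restr A s.1 s.2
    refine ⟨s * t₀ * s⁻¹, ⟨emb (ρ₂₃ z m₀), ⟨_, rfl⟩, ?_⟩, ?_⟩
    · rw [← hz, ← h.pt_conj, hm₀]; rfl
    · rw [← he, map_mul σ, map_mul σ, map_inv σ]

end Cfsg.Agent.Lib.FischerExist27.M24
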