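import Cfsg.Agent.Lib.Fi24.Checks
import Cfsg.Agent.Lib.FischerExist27.M24Stab
import Cfsg.Agent.Lib.FischerExist27.M24Part

/-!
The presented Fi24 is a primitive group of 3-transpositions of type M(24).
-/

set_option autoImplicit false
set_option maxRecDepth 20000
set_option Elab.async false

namespace Cfsg.Agent.Lib.FischerExist27.M24

open Cfsg.Agent.Lib.Fi24 (G)

theorem main : Finite G ∧ ∃ E : Set G, Cfsg.IsThreeTranspositionClass E ∧
    Cfsg.IsPrimitiveUnderConj E ∧ Cfsg.IsOfTypeM24 G E := by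
  obtain ⟨ρ, ρ₂₃, A⟩ := exists_action (Fi24.cosetAction_of_points Fi24.points_ok)
  obtain ⟨h, C, hprim⟩ := exists_class A
  refine ⟨Finite.of_injective ρ A.inj, Set.range h.pt, C.three, hprim, h.center_eq_bot, d,
    ⟨o, h.pt_base⟩, h.pt r₂, ⟨r₂, rfl⟩, fun hc => C.moved (h.pt_injective ?_), type_stab A C,
    type_part A C⟩
  rw [← h.pt_conj, hc.eq, mul_inv_cancel_right]

end Cfsg.Agent.Lib.FischerExist27.M24
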