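import Cfsg.Agent.Lib.Fi24.Structure
import Cfsg.Agent.Lib.FischerExist27.M23
import Cfsg.Agent.Lib.FischerExist27.M24Defs

/-!
The presented Fi24 on 306936 points: a class of 3-transpositions.
-/

set_option autoImplicit false
set_option maxRecDepth 20000
set_option Elab.async false
set_option maxHeartbeats 2000000

namespace Cfsg.Agent.Lib.FischerExist27.M24

open Cfsg.Agent.Lib.CosetEnum (allBelow allBelow_iff force_eq get32)
open Cfsg.Agent.Lib.Fi24 (G xg H table small big subPos emb)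
open Cfsg.Agent.Lib.FischerExist27.M24Defs (cw cWord)

/-- The base transposition. -/
noncomputable abbrev d : G := xg 0

/-- The base point. -/
abbrev o : Fin 306936 := ⟨0, by omega⟩

/-- The representative of the commuting transpositions. -/
noncomputable abbrev r₁ : Fin 306936 := emb ⟨0, by omega⟩

/-- The representative of the others. -/
abbrev r₂ : Fin 306936 := ⟨1, by omega⟩

/-- The letters of Fi23. -/
noncomputable abbrev φ₂₃ (g : ℕ) : M23.X :=
  CosetEnum.Fi23x31671.letters.phi CosetEnum.Fi23x31671.pres g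

/-- What is used about the action. -/
structure Action (ρ : G →* Equiv.Perm (Fin 306936)) (ρ₂₃ : M23.X →* Equiv.Perm (Fin 31671)) :
    Prop where
  gen : ∀ g < 12, ∀ i, (ρ (xg g) i).1 = Fi24.Cert.tget table i.1 g
  scan : ∀ l : List ℕ, (∀ g ∈ l, g < 12) → ∀ i : Fin 306936,
    ((ρ (l.map xg).prod)⁻¹ i).1 = Fi24.Cert.scanT table l i.1
  stabH : stab ρ o = H
  trans : ∀ i, ∃ x, ρ x o = i
  inj : Function.Injective ρ
  kernel : ∀ x ∈ H, (∀ m, ρ x (emb m) = emb m) → x = 1 ∨ x = d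
  scan23 : ∀ g < 10, ∀ i : Fin 31671, ((ρ₂₃ (φ₂₃ g))⁻¹ i).1 =
    get32 CosetEnum.Fi23x31671.table (i.1 * 10 + g)
  inj23 : Function.Injective ρ₂₃
  fix : ∀ m, ρ d (emb m) = emb m
  gen23 : ∀ g < 10, ∀ m, ρ (xg (g + 2)) (emb m) = emb (ρ₂₃ (φ₂₃ g) m)
  trans23 : ∀ m m', ∃ x ∈ H, ρ x (emb m) = emb m'

theorem mem_H {g : ℕ} (hg : g < 12) (hg1 : g ≠ 1) : xg g ∈ H :=
  Subgroup.subset_closure ⟨g, hg, hg1, rfl⟩

theorem small_val (m : Fin 31671) : (emb m).1 = Fi24.Cert.col19 small m.1 := rfl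

theorem exists_action (hA : Fi24.CosetAction) : ∃ ρ ρ₂₃, Action ρ ρ₂₃ := by
  obtain ⟨ρ, σ, hscan, hst, htr, -, -, hker, hl1, -, hfix, htr23⟩ :=
    Fi24.hFacts_of_action hA
  obtain ⟨ρ₂₃, hρ₂₃, -, -⟩ := CosetEnum.Fi23x31671.enum.action
  have hgen : ∀ g < 12, ∀ i, (ρ (xg g) i).1 = Fi24.Cert.tget table i.1 g := by
    intro g hg i
    have h := hscan [g] (by simpa using hg) i
    rw [List.map_cons, List.map_nil, List.prod_cons, List.prod_nil, mul_one, ← map_inv,
      Fi24.xg_inv hg] at h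
    rw [h]
    exact force_eq _ _
  have hkernel : ∀ x ∈ H, (∀ m, ρ x (emb m) = emb m) → x = 1 ∨ x = d := fun x hx hm =>
    (hker ⟨x, hx⟩).1 ((hfix ⟨x, hx⟩).2 hm)
  haveI : IsSimpleGroup M23.X := Cfsg.Agent.S1697.result.1
  refine ⟨ρ, ρ₂₃,
    { gen := hgen
      scan := hscan
      stabH := Subgroup.ext fun x => (hst x).symm
      trans := htr
      inj := ?_
      kernel := hkernel
      scan23 := hρ₂₃
      inj23 := ?_
      fix := fun m => Fin.ext ((hgen 0 (by omega) _).trans (Fi24.small_spec m.2).2.2.2.1)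
      gen23 := ?_
      trans23 := htr23 }⟩
  · rw [injective_iff_map_eq_one]
    intro x hx
    refine (hkernel x ((hst x).2 (by rw [hx]; rfl)) fun m => by rw [hx]; rfl).resolve_right fun e => ?_
    have h := hgen 0 (by omega) ⟨1, by omega⟩
    rw [← show x = xg 0 from e, hx, Equiv.Perm.one_apply] at h
    exact absurd h (by decide +kernel)
  · rw [← MonoidHom.ker_eq_bot_iff]
    refine (MonoidHom.normal_ker ρ₂₃).eq_bot_or_eq_top.resolve_right fun h => ?_
    have h1 : ρ₂₃ (φ₂₃ 0) = 1 := by rw [← MonoidHom.mem_ker, h]; trivial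
    have h2 := hρ₂₃ 0 (show 0 < 10 by omega) ⟨8, by omega⟩
    rw [h1, inv_one, Equiv.Perm.one_apply] at h2
    exact absurd h2 (by decide +kernel)
  · intro g hg m
    obtain ⟨n, rfl⟩ := (ρ₂₃ (φ₂₃ g))⁻¹.surjective m
    rw [Equiv.Perm.inv_def, Equiv.apply_symm_apply]
    refine ((ρ (xg (g + 2))).apply_eq_iff_eq_symm_apply).2 (Fin.ext ?_)
    rw [small_val, ← Equiv.Perm.inv_def, hρ₂₃ g hg, ← Equiv.Perm.inv_def, ← map_inv,
      Fi24.xg_inv (show g + 2 < 12 by omega), hgen _ (by omega), small_val]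
    exact ((Fi24.small_spec n.2).2.2.2.2 g hg).symm

variable {ρ : G →* Equiv.Perm (Fin 306936)} {ρ₂₃ : M23.X →* Equiv.Perm (Fin 31671)}

theorem exists_restr (A : Action ρ ρ₂₃) :
    ∀ x ∈ H, ∃ z : M23.X, ∀ m, ρ x (emb m) = emb (ρ₂₃ z m) := by
  intro x hx
  induction hx using Subgroup.closure_induction with
  | mem x hx =>
    obtain ⟨g, hg, hg1, rfl⟩ := hx
    rcases Nat.eq_zero_or_pos g with rfl | hpos
    · exact ⟨1, fun m => by rw [map_one, Equiv.Perm.one_apply]; exact A.fix m⟩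
    · refine ⟨φ₂₃ (g - 2), fun m => ?_⟩
      have := A.gen23 (g - 2) (by omega) m
      rwa [show g - 2 + 2 = g by omega] at this
  | one => exact ⟨1, fun m => by simp⟩
  | mul a b _ _ ha hb =>
    obtain ⟨u, hu⟩ := ha
    obtain ⟨v, hv⟩ := hb
    exact ⟨u * v, fun m => by simp [hv, hu]⟩
  | inv a _ ha =>
    obtain ⟨u, hu⟩ := ha
    refine ⟨u⁻¹, fun m => ?_⟩
    have h := hu ((ρ₂₃ u)⁻¹ m)
    rw [Equiv.Perm.inv_def, Equiv.apply_symm_apply] at h
    rw [map_inv, map_inv, Equiv.Perm.inv_def, Equiv.Perm.inv_def]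
    exact (Equiv.symm_apply_eq _).2 h.symm

/-- The second suborbit. -/
noncomputable def bigEmb (j : Fin 275264) : Fin 306936 :=
  ⟨Fi24.Cert.col19 big j.1, by
    have h := allBelow_iff.1 Fi24.bigAt_ok j.1 j.2
    simp only [Fi24.bigAt, force_eq, Bool.and_eq_true, Nat.blt_eq] at h
    exact h.1.1⟩

theorem bigEmb_val (j : Fin 275264) : (bigEmb j).1 = Fi24.Cert.col19 big j.1 := rfl

theorem bigEmb_pos (j : Fin 275264) :
    Fi24.Cert.col19 subPos (bigEmb j).1 = 31671 + j.1 := by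
  have h := allBelow_iff.1 Fi24.bigAt_ok j.1 j.2
  simp only [Fi24.bigAt, force_eq, Bool.and_eq_true, Nat.beq_eq] at h
  exact h.1.2

theorem cover_cases (i : Fin 306936) :
    i = o ∨ (∃ m, emb m = i) ∨ ∃ j, bigEmb j = i := by
  have h := allBelow_iff.1 Fi24.coverPt_ok i.1 i.2
  simp only [Fi24.coverPt, force_eq, Bool.or_eq_true, Bool.and_eq_true, Nat.blt_eq, Nat.beq_eq,
    Nat.sub_eq] at h
  rcases h with h | ⟨hlt, he⟩ | ⟨⟨-, hlt⟩, he⟩
  · exact Or.inl (Fin.ext h)
  · exact Or.inr (Or.inl ⟨⟨_, hlt⟩, Fin.ext he⟩)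
  · exact Or.inr (Or.inr ⟨⟨_, hlt⟩, Fin.ext ((bigEmb_val _).trans he)⟩)

theorem bigEmb_zero : bigEmb ⟨0, by omega⟩ = r₂ :=
  Fin.ext (show Fi24.Cert.col19 big 0 = 1 by decide +kernel)

theorem big_orbit (A : Action ρ ρ₂₃) :
    ∀ j, ∃ s ∈ stab ρ o, ρ s r₂ = bigEmb j := by
  rintro ⟨j, hj⟩
  induction j using Nat.strong_induction_on with
  | _ j ih =>
    rcases Nat.eq_zero_or_pos j with rfl | hpos
    · exact ⟨1, one_mem _, by rw [map_one, Equiv.Perm.one_apply, bigEmb_zero]⟩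
    have h := allBelow_iff.1 Fi24.bigAt_ok j hj
    simp only [Fi24.bigAt, force_eq, Bool.and_eq_true, Bool.or_eq_true, Nat.blt_eq, Nat.beq_eq] at h
    obtain ⟨⟨⟨hlt, hg⟩, hH⟩, he⟩ := h.2.resolve_left (by omega)
    obtain ⟨s, hs, hs'⟩ := ih _ hlt (by omega)
    refine ⟨xg (Fi24.Cert.parent Fi24.bigTree j % 16) * s, mul_mem ?_ hs, ?_⟩
    · rw [A.stabH]
      refine mem_H hg fun e => ?_
      change Nat.mod (Fi24.Cert.parent Fi24.bigTree j) 16 = 1 at e
      rw [e] at hH
      exact Bool.noConfusion hH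
    · rw [map_mul, Equiv.Perm.mul_apply, hs']
      exact Fin.ext ((A.gen _ hg _).trans he)

theorem d_central : ∀ x ∈ H, x * d = d * x := by
  intro x hx
  induction hx using Subgroup.closure_induction with
  | mem a ha =>
    obtain ⟨g, hg, hg1, rfl⟩ := ha
    rcases eq_or_ne g 0 with rfl | hg0
    · rfl
    have h := Fi24.xg_pow hg (show 0 < 12 by omega)
    rw [if_neg hg0, (show ∀ g < 12, g ≠ 0 → g ≠ 1 → Fi24.joined g 0 = false by decide +kernel)
      g hg hg0 hg1, if_neg Bool.false_ne_true, pow_two] at h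
    have h' := mul_eq_one_iff_eq_inv.1 h
    rwa [mul_inv_rev, Fi24.xg_inv hg, Fi24.xg_inv (show 0 < 12 by omega)] at h'
  | one => simp
  | mul a b _ _ ha hb => rw [mul_assoc, hb, ← mul_assoc, ha, mul_assoc]
  | inv a _ ha => exact (Commute.inv_left (show Commute a d from ha)).eq

theorem braid {a b : ℕ} (ha : a < 12) (hb : b < 12) (hne : a ≠ b) (hj : Fi24.joined a b = true) :
    (xg a * xg b) * xg a * (xg a * xg b)⁻¹ = xg b := by
  have h := Fi24.xg_pow ha hb
  rw [if_neg hne, if_pos hj, pow_succ, pow_two] at h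
  have h2 := mul_eq_one_iff_eq_inv.1 h
  rw [mul_inv_rev, Fi24.xg_inv ha, Fi24.xg_inv hb] at h2
  rw [mul_inv_rev, Fi24.xg_inv ha, Fi24.xg_inv hb]
  calc xg a * xg b * xg a * (xg b * xg a)
      = (xg a * xg b * (xg a * xg b)) * xg a := by simp [mul_assoc]
    _ = (xg b * xg a) * xg a := by rw [h2]
    _ = xg b := by rw [mul_assoc, Fi24.xg_sq ha, mul_one]

theorem isConj_letter : ∀ g < 12, IsConj d (xg g) := by
  have step : ∀ a b, a < 12 → b < 12 → a ≠ b → Fi24.joined a b = true → IsConj d (xg a) →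
      IsConj d (xg b) := fun a b ha hb hne hj h =>
    h.trans (isConj_iff.2 ⟨_, braid ha hb hne hj⟩)
  have w1 := step 0 1 (by omega) (by omega) (by omega) rfl (IsConj.refl d)
  have w2 := step 1 2 (by omega) (by omega) (by omega) rfl w1
  have w3 := step 2 3 (by omega) (by omega) (by omega) rfl w2
  have w4 := step 3 4 (by omega) (by omega) (by omega) rfl w3
  have w5 := step 4 5 (by omega) (by omega) (by omega) rfl w4
  have w6 := step 5 6 (by omega) (by omega) (by omega) rfl w5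
  have w7 := step 6 7 (by omega) (by omega) (by omega) rfl w6
  have w8 := step 7 8 (by omega) (by omega) (by omega) rfl w7
  have w9 := step 8 9 (by omega) (by omega) (by omega) rfl w8
  have w10 := step 5 10 (by omega) (by omega) (by omega) rfl w5
  have w11 := step 10 11 (by omega) (by omega) (by omega) rfl w10
  intro g hg
  interval_cases g <;> first | exact IsConj.refl d | assumption

/-- The class of 3-transpositions and what is known of it. -/
structure Class (ρ : G →* Equiv.Perm (Fin 306936)) (h : BaseInvolution ρ o r₁ r₂ d) : Prop where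
  three : Cfsg.IsThreeTranspositionClass (Set.range h.pt)
  word : ∀ P : List ℕ, (∀ g ∈ P, g < 12) → ∀ i : Fin 306936, Fi24.Cert.scanT table P 0 = i.1 →
    ∀ j : Fin 306936, (ρ (h.pt i) j).1 = Fi24.Cert.scanT table (cw P) j.1
  fixed : ∀ j, j ≠ o → ρ d j = j → ∃ m, emb m = j
  moved : ρ d r₂ ≠ r₂

theorem exists_class (A : Action ρ ρ₂₃) :
    ∃ h : BaseInvolution ρ o r₁ r₂ d, Class ρ h ∧ Cfsg.IsPrimitiveUnderConj (Set.range h.pt) := by
  have htr1 : ∀ m, ∃ s ∈ stab ρ o, ρ s r₁ = emb m := fun m => by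
    rw [A.stabH]; exact A.trans23 _ m
  have hrk : RankThree ρ o r₁ r₂ :=
    { inj := A.inj
      trans := A.trans
      cover := fun j => by
        rcases cover_cases j with h | ⟨m, rfl⟩ | ⟨n, rfl⟩
        exacts [Or.inl h, Or.inr (Or.inl (htr1 m)), Or.inr (Or.inr (big_orbit A n))] }
  have hne0 : ∀ m, emb m ≠ o := fun m e => by
    have := (Fi24.small_spec m.2).2.1
    rw [← small_val, e] at this
    exact absurd this (lt_irrefl _)
  have hsmall : ∀ s ∈ stab ρ o, ∀ m, ∃ m', ρ s (emb m) = emb m' := fun s hs m => by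
    obtain ⟨z, hz⟩ := exists_restr A s (A.stabH ▸ hs)
    exact ⟨_, hz m⟩
  have hsep : ∀ m n, emb m ≠ bigEmb n := fun m n e => by
    have h1 := bigEmb_pos n
    rw [← e, small_val, (Fi24.small_spec m.2).2.2.1] at h1
    omega
  have ha : {y | ∃ k ∈ stab ρ o, ρ k r₁ = y}.ncard = 31671 := by
    rw [show {y | ∃ k ∈ stab ρ o, ρ k r₁ = y} = Set.range emb from Set.ext fun y =>
      ⟨fun ⟨k, hk, e⟩ => ⟨_, ((hsmall k hk _).choose_spec).symm.trans e⟩,
        fun ⟨m, e⟩ => e ▸ htr1 m⟩, Set.ncard_range_of_injective Fi24.emb_injective,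
      Nat.card_eq_fintype_card, Fintype.card_fin]
  have hb : {y | ∃ k ∈ stab ρ o, ρ k r₂ = y}.ncard = 275264 := by
    have hinj : Function.Injective bigEmb := fun a b e => Fin.ext (by
      have h1 := bigEmb_pos a
      rw [e, bigEmb_pos b] at h1
      omega)
    rw [show {y | ∃ k ∈ stab ρ o, ρ k r₂ = y} = Set.range bigEmb from Set.ext fun y =>
      ⟨fun ⟨k, hk, e⟩ => ?_, fun ⟨m, e⟩ => e ▸ big_orbit A m⟩, Set.ncard_range_of_injective hinj,
      Nat.card_eq_fintype_card, Fintype.card_fin]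
    rcases cover_cases y with rfl | ⟨m, rfl⟩ | hy
    · exact absurd ((ρ k).injective (e.trans (mem_stab.1 hk).symm)) (by decide)
    · obtain ⟨m', hm'⟩ := hsmall k⁻¹ (inv_mem hk) m
      rw [← e, ← Equiv.Perm.mul_apply, ← map_mul, inv_mul_cancel, map_one, Equiv.Perm.one_apply,
        ← bigEmb_zero] at hm'
      exact absurd hm'.symm (hsep _ _)
    · exact hy
  have hr1 : r₁ ≠ o := hne0 _
  have hmax := hrk.eq_or_top ha hb hr1 (by decide)
    (by rw [Nat.card_eq_fintype_card, Fintype.card_fin]; decide)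
    (by rw [Nat.card_eq_fintype_card, Fintype.card_fin]; decide)
  have hd2 : ρ d r₂ ≠ r₂ := fun e => by
    have := (A.gen 0 (by omega) r₂).symm.trans (congrArg Fin.val e)
    exact absurd this (by decide +kernel)
  have hdo : ρ d o = o := mem_stab.1 (A.stabH ▸ mem_H (g := 0) (by omega) (by omega))
  have hk0 : ρ (xg 1) o = r₂ :=
    Fin.ext ((A.gen 1 (by omega) o).trans (by decide +kernel))
  have hnc : ∃ x, x * d ≠ d * x := ⟨xg 1, fun e => hd2 (by
    rw [← hk0, ← Equiv.Perm.mul_apply, ← map_mul, ← e, map_mul, Equiv.Perm.mul_apply, hdo])⟩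
  have h : BaseInvolution ρ o r₁ r₂ d :=
    { toRankThree := hrk
      sq := Fi24.xg_sq (by omega)
      max := hmax
      central := fun x hx => d_central x (A.stabH ▸ hx)
      not_central := hnc }
  have hword : ∀ P : List ℕ, (∀ g ∈ P, g < 12) → ∀ i : Fin 306936, Fi24.Cert.scanT table P 0 = i.1 →
      ∀ j : Fin 306936, (ρ (h.pt i) j).1 = Fi24.Cert.scanT table (cw P) j.1 := by
    intro P hP i hi j
    have e : ρ ((P.map xg).prod)⁻¹ o = i := by
      rw [map_inv]; exact Fin.ext ((A.scan P hP o).trans hi)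
    have e2 : h.pt i = ((cw P).map xg).prod := by
      rw [← e, h.pt_eq, inv_inv, cw, List.map_append, List.map_append, List.prod_append,
        List.prod_append, Fi24.prod_reverse hP]
      simp
    rw [← A.scan (cw P) (fun g hg => ?_) j, ← e2, ← map_inv, h.pt_inv]
    simp only [cw, List.mem_append, List.mem_reverse, List.mem_singleton] at hg
    rcases hg with (hg | hg) | hg
    exacts [hP g hg, by omega, hP g hg]
  have hgen : Subgroup.closure (Set.range h.pt) = ⊤ := by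
    rw [h.range_pt, eq_top_iff, ← Fi24.gen_closure, Subgroup.closure_le]
    rintro _ ⟨g, hg, rfl⟩
    exact Subgroup.subset_closure (isConj_letter g hg)
  have hb' : ρ (h.pt r₂) o = ρ d r₂ := by
    refine Fin.ext ((hword [1] (by simp) r₂ (by decide +kernel) o).trans ?_)
    rw [A.gen 0 (by omega)]
    decide +kernel
  refine ⟨h, ⟨h.three_class (A.fix _) hb' hgen, hword, fun j hjo hj => ?_, hd2⟩,
    h.primitive_under_conj hr1⟩
  rcases cover_cases j with e | hj' | ⟨n, rfl⟩
  · exact absurd e hjo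
  · exact hj'
  · obtain ⟨s, hs, hs'⟩ := big_orbit A n
    refine absurd ?_ hd2
    rw [← hs', ← Equiv.Perm.mul_apply, ← map_mul, ← h.central s hs, map_mul,
      Equiv.Perm.mul_apply] at hj
    exact (ρ s).injective hj

end Cfsg.Agent.Lib.FischerExist27.M24
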